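import Cfsg.Agent.Lib.H39.DA2

/-! Piece of Q8 (S3262): an element of order prime to `2m` commuting with `p` and inverted by a commuting involution. -/

set_option autoImplicit false

namespace H90.Q8i

open MulAction H39.DA

universe u v

theorem sh_kill {Y : Type u} {X : Type v} [Group Y] [Finite Y] [MulAction Y X] [Finite X] (h : Sh Y X)
    (F : Subgroup Y) (hF : Reg Y X F) (hFi : ∀ g : Y, Inv g → ∀ e ∈ F, g * e * g⁻¹ = e⁻¹) {v g : Y} (hv : Inv v)
    (hg : (orderOf g).Coprime (2 * Nat.card X)) (hinv : v * g * v⁻¹ = g⁻¹) : g = 1 := by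
  classical
  by_contra hg1
  have hcop2 : (orderOf g).Coprime 2 := Nat.Coprime.coprime_dvd_right (Dvd.intro _ rfl) hg
  have hcopm : (orderOf g).Coprime (Nat.card X) := Nat.Coprime.coprime_dvd_right (Dvd.intro_left _ rfl) hg
  -- `g` has a fixed point
  have hfix : ∃ x : X, g • x = x := by
    by_contra hno
    push Not at hno
    have hsemi : ∀ (k : ℤ) (x : X), g ^ k • x = x → g ^ k = 1 := by
      intro k x hk
      by_contra hk1
      apply hno x
      by_contra hgx
      apply hk1
      apply h.sh (g ^ k) x (g • x) (Ne.symm hgx) hk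
      rw [smul_smul, ← (Commute.refl g).zpow_right k |>.eq, ← smul_smul, hk]
    have hdvd : Nat.card (Subgroup.zpowers g) ∣ Nat.card X := by
      have hstab : ∀ x : X, stabilizer (Subgroup.zpowers g) x = ⊥ := by
        intro x
        rw [eq_bot_iff]
        rintro ⟨y, hy⟩ hyx
        obtain ⟨k, rfl⟩ := Subgroup.mem_zpowers_iff.mp hy
        have h1 : g ^ k • x = x := hyx
        rw [Subgroup.mem_bot]
        exact Subtype.ext (hsemi k x h1)
      haveI : Fintype (Quotient (orbitRel (↥(Subgroup.zpowers g)) X)) := Fintype.ofFinite _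
      have hcard := Nat.card_congr (selfEquivSigmaOrbitsQuotientStabilizer (Subgroup.zpowers g) X)
      rw [hcard, Nat.card_sigma]
      apply Finset.dvd_sum
      intro ω _
      rw [hstab]
      have : Nat.card (↥(Subgroup.zpowers g) ⧸ (⊥ : Subgroup ↥(Subgroup.zpowers g))) = Nat.card (Subgroup.zpowers g) :=
        Nat.card_congr (QuotientGroup.quotientBot (G := ↥(Subgroup.zpowers g))).toEquiv
      rw [this]
    rw [Nat.card_zpowers] at hdvd
    have h1 : orderOf g = 1 := Nat.Coprime.eq_one_of_dvd hcopm hdvd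
    exact hg1 (orderOf_eq_one_iff.mp h1)
  obtain ⟨x, hx⟩ := hfix
  have huniq : ∀ y : X, g • y = y → y = x := by
    intro y hy
    by_contra hne
    exact hg1 (h.sh g y x hne hy hx)
  have hgv : g * v = v * g⁻¹ := by
    have h2 : v⁻¹ = v := inv_eq_of_mul_eq_one_left hv.2
    calc g * v = v * (v⁻¹ * g * v) := by group
      _ = v * (v * g * v⁻¹) := by rw [h2]
      _ = v * g⁻¹ := by rw [hinv]
  have hvx : v • x = x := by
    apply huniq
    rw [smul_smul, hgv, ← smul_smul, inv_smul_eq_iff.mpr hx.symm]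
  have hw : Inv (g * v * g⁻¹) := by
    refine ⟨?_, ?_⟩
    · intro h1
      apply hv.1
      have : v = g⁻¹ * (g * v * g⁻¹) * g := by group
      rw [this, h1]; group
    · have : g * v * g⁻¹ * (g * v * g⁻¹) = g * (v * v) * g⁻¹ := by group
      rw [this, hv.2]; group
  have hwx : (g * v * g⁻¹) • x = x := by
    rw [← smul_smul, ← smul_smul, inv_smul_eq_iff.mpr hx.symm, hvx, hx]
  have hvw : v * (g * v * g⁻¹) = 1 := by
    apply h.faith
    intro y
    obtain ⟨e, he, hey⟩ := hF.2.1 x y
    have h1 : v * (g * v * g⁻¹) * e = e * (v * (g * v * g⁻¹)) := by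
      have e1 := hFi _ hw e he
      have e2 := hFi _ hv (e⁻¹) (inv_mem he)
      have e3 : (g * v * g⁻¹) * e = e⁻¹ * (g * v * g⁻¹) := by rw [← e1]; group
      have e4 : v * e⁻¹ = e * v := by
        have : v * e⁻¹ = (v * e⁻¹ * v⁻¹) * v := by group
        rw [this, e2, inv_inv]
      calc v * (g * v * g⁻¹) * e = v * ((g * v * g⁻¹) * e) := by group
        _ = (v * e⁻¹) * (g * v * g⁻¹) := by rw [e3]; group
        _ = e * (v * (g * v * g⁻¹)) := by rw [e4]; group
    rw [← hey, smul_smul, h1, ← smul_smul]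
    congr 1
    rw [← smul_smul, hwx, hvx]
  have hcomm : g * v * g⁻¹ = v := by
    have h1 : v⁻¹ = v := inv_eq_of_mul_eq_one_left hv.2
    have h2 : g * v * g⁻¹ = v⁻¹ := (eq_inv_of_mul_eq_one_right hvw)
    rw [h2, h1]
  have hg2 : g * g = 1 := by
    have h1 : g * v = v * g := by
      have : g * v = (g * v * g⁻¹) * g := by group
      rw [this, hcomm]
    have h2 : v * g = v * g⁻¹ := by rw [← h1, hgv]
    have h3 : g = g⁻¹ := mul_left_cancel h2
    nth_rewrite 1 [h3]
    exact inv_mul_cancel g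
  have h2 : orderOf g ∣ 2 := orderOf_dvd_of_pow_eq_one (by rw [pow_two]; exact hg2)
  have h3 : orderOf g = 1 := Nat.Coprime.eq_one_of_dvd hcop2 h2
  exact hg1 (orderOf_eq_one_iff.mp h3)

theorem card_Fx {C : Type u} {X : Type v} [Group C] [MulAction C X] (p : C) :
    Nat.card (Fx C (Ω := X) ({p} : Set C)) = fx C X p := by
  unfold fx
  apply Nat.card_congr
  refine Equiv.subtypeEquivRight fun x => ?_
  constructor
  · intro hx; exact hx p rfl
  · intro hx g hg
    rw [Set.mem_singleton_iff] at hg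
    rw [hg]; exact hx

theorem cb_mul {C : Type u} {X : Type v} [Group C] [MulAction C X] {p g k : C}
    (hg : g ∈ Subgroup.centralizer ({p} : Set C)) (hk : k ∈ Subgroup.centralizer ({p} : Set C)) :
    cb X hg * cb X hk = cb X (mul_mem hg hk) := by
  apply Subtype.ext
  show resHom _ _ cent_inv ⟨g, hg⟩ * resHom _ _ cent_inv ⟨k, hk⟩ = resHom _ _ cent_inv ⟨g * k, _⟩
  rw [← map_mul]
  rfl

theorem cb_inv {C : Type u} {X : Type v} [Group C] [MulAction C X] {p g : C}
    (hg : g ∈ Subgroup.centralizer ({p} : Set C)) : (cb X hg)⁻¹ = cb X (inv_mem hg) := by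
  apply Subtype.ext
  show (resHom _ _ cent_inv ⟨g, hg⟩)⁻¹ = resHom _ _ cent_inv ⟨g⁻¹, _⟩
  rw [← map_inv]
  rfl

theorem cb_congr {C : Type u} {X : Type v} [Group C] [MulAction C X] {p g k : C}
    (hg : g ∈ Subgroup.centralizer ({p} : Set C)) (hk : k ∈ Subgroup.centralizer ({p} : Set C)) (h : g = k) :
    cb X hg = cb X hk := by
  subst h; rfl

/-- The statement for `C(p)`; the hypotheses `hSh`, `hker` are conclusions of `t2_main` (for `p`), `F` comes from `sh_odd`. -/
theorem inv_kill {C : Type u} {X : Type v} [Group C] [Finite C] [MulAction C X] [Finite X] {p v g : C} (hp : Inv p)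
    (hSh : Sh (CB C X p) (Fx C (Ω := X) ({p} : Set C)))
    (hker : ∀ (g : C) (hg : g ∈ Subgroup.centralizer ({p} : Set C)), cb X hg = 1 ↔ (g = 1 ∨ g = p))
    (F : Subgroup (CB C X p)) (hF : Reg (CB C X p) (Fx C (Ω := X) ({p} : Set C)) F)
    (hFi : ∀ g : CB C X p, Inv g → ∀ e ∈ F, g * e * g⁻¹ = e⁻¹)
    (hv : Inv v) (hvp : v * p = p * v) (hne : v ≠ p) (hg : g * p = p * g)
    (hgo : (orderOf g).Coprime (2 * fx C X p)) (hinv : v * g * v⁻¹ = g⁻¹) : g = 1 := by
  have hgc : g ∈ Subgroup.centralizer ({p} : Set C) := Subgroup.mem_centralizer_singleton_iff.mpr hg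
  have hvc : v ∈ Subgroup.centralizer ({p} : Set C) := Subgroup.mem_centralizer_singleton_iff.mpr hvp
  have h1 : cb X hgc = 1 := by
    have hpow : ∀ n : ℕ, (cb X hgc) ^ n = cb X (pow_mem hgc n) := by
      intro n
      induction n with
      | zero =>
        rw [pow_zero]
        symm
        rw [hker]
        left; exact pow_zero g
      | succ n ih =>
        rw [pow_succ, ih, cb_mul]
        exact cb_congr _ _ (pow_succ g n).symm
    refine sh_kill hSh F hF hFi (v := cb X hvc) ⟨?_, ?_⟩ ?_ ?_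
    · intro h2
      rcases (hker v hvc).mp h2 with h3 | h3
      · exact hv.1 h3
      · exact hne h3
    · rw [cb_mul, hker]
      left; exact hv.2
    · rw [card_Fx]
      refine Nat.Coprime.coprime_dvd_left ?_ hgo
      apply orderOf_dvd_of_pow_eq_one
      rw [hpow, hker]
      left; exact pow_orderOf_eq_one g
    · rw [cb_mul, cb_inv, cb_mul, cb_inv]
      congr 1
  rcases (hker g hgc).mp h1 with h2 | h2
  · exact h2
  · exfalso
    have h3 : orderOf p ∣ 2 := orderOf_dvd_of_pow_eq_one (by rw [pow_two]; exact hp.2)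
    rw [h2] at hgo
    have h4 : orderOf p = 1 := Nat.Coprime.eq_one_of_dvd (Nat.Coprime.coprime_dvd_right (Dvd.intro _ rfl) hgo) h3
    exact hp.1 (orderOf_eq_one_iff.mp h4)

end H90.Q8i
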