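import Cfsg.Agent.Lib.H88.TransferDatum
import Cfsg.Agent.Lib.H90.FusAb

/-! The transfer `S → S/S'` of a saturated fusion system. -/

set_option autoImplicit false
open Cfsg Cfsg.FusionSystem
open H86.FusBasic H86.FusSat H88.TransferDatum

namespace H90.Transfer

/-- A function whose products over closed loops of a permutation are trivial has trivial product. -/
theorem prod_eq_one_of_loops {I A : Type*} [Fintype I] [CommGroup A] (π : Equiv.Perm I) (f : I → A)
    (h : ∀ (i : I) (m : ℕ), (π ^ m) i = i → ∏ k ∈ Finset.range m, f ((π ^ k) i) = 1) :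
    ∏ i, f i = 1 := by
  classical
  let r : I → I := fun i => (Quotient.mk (Equiv.Perm.SameCycle.setoid π) i).out
  have hr : ∀ i, π.SameCycle (r i) i := fun i => Quotient.mk_out (s := Equiv.Perm.SameCycle.setoid π) i
  have hrπ : ∀ i, r (π i) = r i := by
    intro i
    have : Quotient.mk (Equiv.Perm.SameCycle.setoid π) (π i) = Quotient.mk (Equiv.Perm.SameCycle.setoid π) i := by
      apply Quotient.sound
      exact (Equiv.Perm.sameCycle_apply_left.2 (Equiv.Perm.SameCycle.refl π i))
    show (Quotient.mk _ (π i)).out = _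
    rw [this]
  have hn : ∀ i, ∃ n : ℕ, (π ^ n) (r i) = i := fun i => by
    obtain ⟨n, hn⟩ := (hr i).exists_nat_pow_eq
    exact ⟨n, hn⟩
  choose n hn using hn
  let g : I → ℕ → A := fun i m => ∏ k ∈ Finset.range m, f ((π ^ k) i)
  have hg : ∀ (i : I) (a b : ℕ), a ≤ b → (π ^ a) i = (π ^ b) i → g i a = g i b := by
    intro i a b hab heq
    obtain ⟨c, rfl⟩ := Nat.exists_eq_add_of_le hab
    show ∏ k ∈ Finset.range a, _ = ∏ k ∈ Finset.range (a + c), _
    rw [Finset.prod_range_add]
    have h1 : ∏ k ∈ Finset.range c, f ((π ^ (a + k)) i) = ∏ k ∈ Finset.range c, f ((π ^ k) ((π ^ a) i)) := by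
      apply Finset.prod_congr rfl
      intro k _
      rw [add_comm a k, pow_add, Equiv.Perm.mul_apply]
    rw [h1, h _ c, mul_one]
    rw [← Equiv.Perm.mul_apply, ← pow_add, add_comm c a, ← heq]
  have hg' : ∀ (i : I) (a b : ℕ), (π ^ a) i = (π ^ b) i → g i a = g i b := by
    intro i a b heq
    rcases le_total a b with hab | hab
    · exact hg i a b hab heq
    · exact (hg i b a hab heq.symm).symm
  let t : I → A := fun i => g (r i) (n i)
  have ht : ∀ i, t (π i) = t i * f i := by
    intro i
    have h1 : t (π i) = g (r i) (n i + 1) := by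
      show g (r (π i)) (n (π i)) = _
      have h2 := hn (π i)
      rw [hrπ] at h2 ⊢
      apply hg'
      rw [h2, pow_succ', Equiv.Perm.mul_apply, hn i]
    rw [h1]
    show ∏ k ∈ Finset.range (n i + 1), _ = _
    rw [Finset.prod_range_succ, hn i]
  have h3 : ∏ i, t (π i) = (∏ i, t i) * ∏ i, f i := by
    rw [← Finset.prod_mul_distrib]
    exact Finset.prod_congr rfl fun i _ => ht i
  rw [Equiv.prod_comp π t] at h3
  exact (mul_eq_left.1 h3.symm)

theorem prod_eq_pow_of_loops {I A : Type*} [Fintype I] [CommGroup A] (π : Equiv.Perm I) (f : I → A) (b : A)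
    (h : ∀ (i : I) (m : ℕ), (π ^ m) i = i → ∏ k ∈ Finset.range m, f ((π ^ k) i) = b ^ m) :
    ∏ i, f i = b ^ Fintype.card I := by
  have h1 := prod_eq_one_of_loops π (fun i => f i * b⁻¹) (by
    intro i m hm
    rw [Finset.prod_mul_distrib, h i m hm, Finset.prod_const, Finset.card_range, inv_pow, mul_inv_cancel])
  rw [Finset.prod_mul_distrib, Finset.prod_const, Finset.card_univ, inv_pow, mul_inv_eq_one] at h1
  exact h1

universe u
variable {Ω : Type u} [Group Ω] {S : Subgroup Ω}

/-- The transfer: an `F`-invariant homomorphism to the abelianization of `S` which on the centre of `F` is a power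
map with exponent prime to `p`. -/
theorem exists_transfer [Finite S] {p : ℕ} [Fact p.Prime] (hS : IsPGroup p S)
    {F : FusionSystem S} (hF : F.IsSaturated p) :
    ∃ (τ : S →* Abelianization S) (n : ℕ), ¬ p ∣ n ∧
      (∀ (P : Subgroup Ω) (φ : P →* Ω) (hφ : φ ∈ F.Hom P) (x : P),
        τ ⟨φ x, apply_mem F hφ x⟩ = τ ⟨x, H86.FusBasic.le_of_mem F hφ x.2⟩) ∧
      ∀ (z : S), (z : Ω) ∈ F.center → τ z = Abelianization.of z ^ n := by
  classical
  obtain ⟨I, _, ⟨D⟩⟩ := exists_datum hS hF
  have := D.finite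
  have := Fintype.ofFinite I
  let τ : S →* Abelianization S :=
    { toFun := fun a => ∏ i, Abelianization.of (D.c a i)
      map_one' := by
        apply Finset.prod_eq_one
        intro i _
        have h := D.cocycle 1 1 i
        rw [one_smul, mul_one] at h
        have h2 : D.c 1 i = 1 := mul_eq_left.1 h.symm
        rw [h2, map_one]
      map_mul' := by
        intro a b
        rw [← Equiv.prod_comp (MulAction.toPerm b) (fun i => Abelianization.of (D.c a i)), ← Finset.prod_mul_distrib]
        apply Finset.prod_congr rfl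
        intro i _
        rw [D.cocycle, map_mul]
        rfl }
  refine ⟨τ, Fintype.card I, ?_, ?_, ?_⟩
  · rw [← Nat.card_eq_fintype_card]
    exact D.coprime
  · intro P φ hφ x
    obtain ⟨σ, d, h⟩ := D.stable P φ hφ
    set a : S := ⟨x, H86.FusBasic.le_of_mem F hφ x.2⟩ with ha
    set b : S := ⟨φ x, apply_mem F hφ x⟩ with hb
    show ∏ i, Abelianization.of (D.c b i) = ∏ i, Abelianization.of (D.c a i)
    rw [← Equiv.prod_comp σ]
    have h1 : ∀ i, Abelianization.of (D.c b (σ i)) * Abelianization.of (d i) =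
        Abelianization.of (d (a • i)) * Abelianization.of (D.c a i) := by
      intro i
      rw [← map_mul, ← map_mul]
      exact congrArg _ (h a x.2 i).2
    have h2 : (∏ i, Abelianization.of (D.c b (σ i))) * ∏ i, Abelianization.of (d i) =
        (∏ i, Abelianization.of (d (a • i))) * ∏ i, Abelianization.of (D.c a i) := by
      rw [← Finset.prod_mul_distrib, ← Finset.prod_mul_distrib]
      exact Finset.prod_congr rfl fun i _ => h1 i
    have h3 : ∏ i, Abelianization.of (d (a • i)) = ∏ i, Abelianization.of (d i) :=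
      Equiv.prod_comp (MulAction.toPerm a) (fun i => Abelianization.of (d i))
    rw [h3, mul_comm] at h2
    exact mul_left_cancel h2
  · intro z hz
    show ∏ i, Abelianization.of (D.c z i) = _
    apply prod_eq_pow_of_loops (MulAction.toPerm z)
    intro i m hm
    have h1 : ∀ m : ℕ, ∏ k ∈ Finset.range m, Abelianization.of (D.c z (((MulAction.toPerm z : Equiv.Perm I) ^ k) i)) =
        Abelianization.of (D.c (z ^ m) i) := by
      intro m
      induction m with
      | zero =>
        rw [Finset.prod_range_zero, pow_zero]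
        have h := D.cocycle 1 1 i
        rw [one_smul, mul_one] at h
        have h2 : D.c 1 i = 1 := mul_eq_left.1 h.symm
        rw [h2, map_one]
      | succ m ih =>
        rw [Finset.prod_range_succ, ih, pow_succ', D.cocycle, map_mul, mul_comm]
        congr 3
        exact (congrFun (congrArg DFunLike.coe (map_pow (MulAction.toPermHom S I) z m)) i).symm
    rw [h1]
    have hfix : z ^ m • i = i := by
      have h5 := (congrFun (congrArg DFunLike.coe (map_pow (MulAction.toPermHom S I) z m)) i)
      exact h5.trans hm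
    obtain ⟨P, φ, hφ, hP, hx⟩ := D.mem_of_fix i
    have hzP : ((z ^ m : S) : Ω) ∈ P := (hP _).1 hfix
    have h6 := hx (z ^ m) hzP
    have hzm : ((z ^ m : S) : Ω) ∈ F.center := by
      rw [Subgroup.coe_pow]
      exact Subgroup.pow_mem _ hz m
    rw [H90.FusAb.map_fixed_of_mem_center hzm hφ hzP] at h6
    have h7 : D.c (z ^ m) i = z ^ m := Subtype.ext h6.symm
    rw [h7, map_pow]

/-- `foc(F) ∩ Z(F) ≤ S'`. -/
theorem foc_inf_center_le [Finite S] {p : ℕ} [Fact p.Prime] (hS : IsPGroup p S)
    {F : FusionSystem S} (hF : F.IsSaturated p) :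
    F.focalSubgroup ⊓ F.center ≤ ⁅S, S⁆ := by
  obtain ⟨τ, n, hn, hinv, hc⟩ := exists_transfer hS hF
  rintro z ⟨hz, hzc⟩
  have hzS : z ∈ S := H90.FusAb.center_le F hzc
  have hker : ∀ (y : Ω) (hy : y ∈ S), y ∈ F.focalSubgroup → τ ⟨y, hy⟩ = 1 := by
    have h1 : F.focalSubgroup ≤ τ.ker.map S.subtype := by
      unfold FusionSystem.focalSubgroup
      rw [Subgroup.closure_le]
      rintro _ ⟨P, φ, x, hφ, rfl⟩
      refine ⟨⟨x, H86.FusBasic.le_of_mem F hφ x.2⟩⁻¹ * ⟨φ x, apply_mem F hφ x⟩, ?_, rfl⟩
      show τ _ = 1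
      rw [map_mul, map_inv, hinv P φ hφ x, inv_mul_cancel]
    intro y hy hyf
    obtain ⟨w, hw, hwy⟩ := h1 hyf
    have : w = ⟨y, hy⟩ := Subtype.ext hwy
    rw [← this]
    exact hw
  have h1 := hc ⟨z, hzS⟩ hzc
  rw [hker z hzS hz] at h1
  -- the order of `z` is a power of `p`
  obtain ⟨k, hk⟩ := hS ⟨z, hzS⟩
  have h2 : Abelianization.of (⟨z, hzS⟩ : S) ^ (p ^ k) = 1 := by rw [← map_pow, hk, map_one]
  have hcop : Nat.Coprime n (p ^ k) :=
    (((Fact.out : p.Prime).coprime_iff_not_dvd.2 hn).pow_left k).symm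
  have h3 : Abelianization.of (⟨z, hzS⟩ : S) = 1 := by
    rw [← orderOf_eq_one_iff]
    exact Nat.eq_one_of_dvd_coprimes hcop (orderOf_dvd_of_pow_eq_one h1.symm) (orderOf_dvd_of_pow_eq_one h2)
  have h4 : (⟨z, hzS⟩ : S) ∈ commutator S := (QuotientGroup.eq_one_iff _).1 h3
  have h5 : (commutator S).map S.subtype = ⁅S, S⁆ := by
    rw [commutator_def, Subgroup.map_commutator, ← MonoidHom.range_eq_map, Subgroup.range_subtype]
  rw [← h5]
  exact ⟨_, h4, rfl⟩

end H90.Transfer
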