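import Cfsg.Agent.Lib.H89.Normal3
import Cfsg.Agent.Lib.H87.Basic
import Cfsg.Prelude.Def_FusionComponents

set_option autoImplicit false
open Cfsg

/-! Normal subgroups and strongly closed subgroups; constrained systems. -/

namespace H90.FusNormal

open Cfsg.FusionSystem H89.Normal H89.Normal2 H89.Normal3

variable {Ω : Type*} [Group Ω] {S T : Subgroup Ω}

theorem stronglyClosed_inf {F : FusionSystem S} {A B : Subgroup Ω} (hA : F.StronglyClosed A) (hB : F.StronglyClosed B) :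
    F.StronglyClosed (A ⊓ B) := by
  refine ⟨inf_le_left.trans hA.1, fun P hP φ hφ x => ?_⟩
  exact ⟨hA.2 P (hP.trans inf_le_left) φ hφ x, hB.2 P (hP.trans inf_le_right) φ hφ x⟩

theorem stronglyClosed_of_sub {F : FusionSystem S} {E : FusionSystem T} (hE : E.IsSubsystemOf F) {A : Subgroup Ω}
    (hA : F.StronglyClosed A) (hAT : A ≤ T) : E.StronglyClosed A :=
  ⟨hAT, fun P hP φ hφ x => hA.2 P hP φ (hE P hφ) x⟩

theorem le_normalizer {F : FusionSystem S} {A : Subgroup Ω} (hA : F.StronglyClosed A) :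
    S ≤ Subgroup.normalizer (A : Set Ω) := by
  intro s hs
  rw [Subgroup.mem_normalizer_iff]
  intro x
  constructor
  · intro hx
    exact stronglyClosed_apply_mem hA (F.conj_mem le_rfl hs) (x := ⟨x, hA.1 hx⟩) hx
  · intro hx
    have hx' : s * x * s⁻¹ ∈ S := hA.1 hx
    have := stronglyClosed_apply_mem hA (F.conj_mem le_rfl (S.inv_mem hs)) (x := ⟨_, hx'⟩) hx
    simpa [conjHom, mul_assoc] using this

/-- The intersection of a normal subgroup with the group of a strongly closed saturated subsystem is normal there. -/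
theorem inf_isNormal [Finite S] {p : ℕ} [Fact p.Prime] (hS : IsPGroup p S) {F : FusionSystem S} (hF : F.IsSaturated p)
    {E : FusionSystem T} (hE : E.IsSaturated p) (hEF : E.IsSubsystemOf F) (hT : F.StronglyClosed T) {Q : Subgroup Ω}
    (hQ : F.IsNormal Q) : E.IsNormal (Q ⊓ T) := by
  have : Finite T := H87.Basic.finite_of_le hT.1
  have hTp : IsPGroup p T := hS.to_le hT.1
  obtain ⟨n, Qs, h0, hn, hmono, hi⟩ := (isNormal_iff_chain hS hF).1 hQ
  rw [isNormal_iff_chain hTp hE]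
  refine ⟨n, fun i => Qs i ⊓ T, ?_, ?_, ?_, ?_⟩
  · change Qs 0 ⊓ T = ⊥
    rw [h0, bot_inf_eq]
  · change Qs (Fin.last n) ⊓ T = _
    rw [hn]
  · intro i j hij
    exact inf_le_inf_right _ (hmono hij)
  · intro i
    refine ⟨stronglyClosed_of_sub hEF (stronglyClosed_inf (hi i).1 hT) inf_le_right, ?_⟩
    refine le_inf ((Subgroup.commutator_mono inf_le_left inf_le_left).trans (hi i).2) ?_
    exact (Subgroup.commutator_mono inf_le_right inf_le_right).trans (Subgroup.commutator_le_self T)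

theorem centric_of_le_of_stronglyClosed [Finite S] {F : FusionSystem S} {A : Subgroup Ω} (hA : F.StronglyClosed A)
    (h : centralizerIn S A ≤ A) : F.IsCentric A := by
  refine ⟨hA.1, fun Q hQ => ?_⟩
  obtain ⟨φ, hφ, rfl⟩ := hQ
  have h1 : φ.range = A := by
    have : Finite A := H87.Basic.finite_of_le hA.1
    have hle : φ.range ≤ A := by
      rintro _ ⟨x, rfl⟩
      exact hA.2 A le_rfl φ hφ x
    apply Subgroup.eq_of_le_of_card_ge hle
    exact (Nat.card_congr (MonoidHom.ofInjective (F.injective_of_mem hφ)).toEquiv).le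
  rw [h1]; exact h

/-- In a constrained system the core is centric. -/
theorem core_centric [Finite S] {p : ℕ} [Fact p.Prime] (hS : IsPGroup p S) {F : FusionSystem S}
    (hF : F.IsConstrained p) : centralizerIn S F.core ≤ F.core := by
  obtain ⟨hs, Q, hQ, hQc⟩ := hF
  have h1 : Q ≤ F.core := isNormal_le_core hQ
  intro x hx
  rw [H86.FusSat.mem_centralizerIn] at hx
  apply h1
  apply hQc.2 Q (H86.FusBasic.isConj_refl F hQ.1)
  rw [H86.FusSat.mem_centralizerIn]
  exact ⟨hx.1, fun y hy => hx.2 y (h1 hy)⟩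

/-- In a constrained system, for a strongly closed subgroup `T`, the centralizer in `T` of `O_p(F) ∩ T` lies in `O_p(F)`. -/
theorem centralizer_core_inf_le [Finite S] {p : ℕ} [Fact p.Prime] (hS : IsPGroup p S) {F : FusionSystem S}
    (hF : F.IsConstrained p) (hT : F.StronglyClosed T) : centralizerIn T (F.core ⊓ T) ≤ F.core ⊓ T := by
  have hs := hF.1
  set Q := F.core with hQdef
  have hQ : F.IsNormal Q := H87.Basic.isNormal_core F
  have hQS : Q ≤ S := hQ.1
  have hQsc := stronglyClosed_of_isNormal hQ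
  have hQc := core_centric hS hF
  have hSQ := le_normalizer hQsc
  have hST := le_normalizer hT
  -- the chain stabilizer
  let D : Subgroup Ω :=
    { carrier := {x | x ∈ S ∧ (∀ q ∈ Q, x * q * x⁻¹ * q⁻¹ ∈ T) ∧ ∀ q ∈ Q ⊓ T, x * q * x⁻¹ = q}
      one_mem' := ⟨S.one_mem, fun q hq => by simp [T.one_mem], fun q hq => by simp⟩
      mul_mem' := by
        rintro x y ⟨hx1, hx2, hx3⟩ ⟨hy1, hy2, hy3⟩
        refine ⟨S.mul_mem hx1 hy1, fun q hq => ?_, fun q hq => ?_⟩
        · have h1 : y * q * y⁻¹ ∈ Q := (Subgroup.mem_normalizer_iff.1 (hSQ hy1) q).1 hq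
          have h2 := T.mul_mem (hx2 _ h1) (hy2 q hq)
          have e : x * (y * q * y⁻¹) * x⁻¹ * (y * q * y⁻¹)⁻¹ * (y * q * y⁻¹ * q⁻¹) = x * y * q * (x * y)⁻¹ * q⁻¹ := by
            group
          rwa [e] at h2
        · have h1 : x * y * q * (x * y)⁻¹ = x * (y * q * y⁻¹) * x⁻¹ := by group
          rw [h1, hy3 q hq, hx3 q hq]
      inv_mem' := by
        rintro x ⟨hx1, hx2, hx3⟩
        have h3 : ∀ q ∈ Q ⊓ T, x⁻¹ * q * x⁻¹⁻¹ = q := by
          intro q hq
          have := hx3 q hq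
          calc x⁻¹ * q * x⁻¹⁻¹ = x⁻¹ * (x * q * x⁻¹) * x⁻¹⁻¹ := by rw [this]
            _ = q := by group
        refine ⟨S.inv_mem hx1, fun q hq => ?_, h3⟩
        have h1 : x⁻¹ * q * x⁻¹⁻¹ ∈ Q := (Subgroup.mem_normalizer_iff.1 (hSQ (S.inv_mem hx1)) q).1 hq
        have h2 := hx2 _ h1
        have e : x * (x⁻¹ * q * x⁻¹⁻¹) * x⁻¹ * (x⁻¹ * q * x⁻¹⁻¹)⁻¹ = (x⁻¹ * q * x⁻¹⁻¹ * q⁻¹)⁻¹ := by group
        rw [e] at h2
        exact (Subgroup.inv_mem_iff _).1 h2 }
  have memD : ∀ x, x ∈ D ↔ x ∈ S ∧ (∀ q ∈ Q, x * q * x⁻¹ * q⁻¹ ∈ T) ∧ ∀ q ∈ Q ⊓ T, x * q * x⁻¹ = q := fun x => Iff.rfl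
  -- an extension tool
  have hext : ∀ (P : Subgroup Ω) (f : Ω → Ω), H87.Base.IsMap F P f → ∃ g, H87.Base.IsMap F (P ⊔ Q) g ∧ (∀ x ∈ P, g x = f x) ∧
      (∀ q ∈ Q, ∃ q' ∈ Q, g q' = q) ∧ ∀ q ∈ Q ⊓ T, ∃ q' ∈ Q ⊓ T, g q' = q := by
    intro P f hf
    obtain ⟨g, hg, h1, -⟩ := (H87.Basic.isNormal_iff.1 hQ).2 P f hf
    refine ⟨g, hg, h1, fun q hq => ?_, fun q hq => ?_⟩
    · exact (H87.Basic.StronglyClosed.isMap_iso hQsc hg le_sup_right).surj hq
    · exact (H87.Basic.StronglyClosed.isMap_iso (stronglyClosed_inf hQsc hT) hg (inf_le_left.trans le_sup_right)).surj hq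
  have hDsc : F.StronglyClosed D := by
    refine H87.Basic.stronglyClosed_iff.2 ⟨fun x hx => hx.1, fun P f hP hf x hx => ?_⟩
    obtain ⟨g, hg, h1, h2, h3⟩ := hext P f hf
    obtain ⟨hx1, hx2, hx3⟩ := hP hx
    have hxm : x ∈ P ⊔ Q := Subgroup.mem_sup_left hx
    refine ⟨hf.mem hx, fun q hq => ?_, fun q hq => ?_⟩
    · obtain ⟨q', hq', rfl⟩ := h2 q hq
      have hqm : q' ∈ P ⊔ Q := Subgroup.mem_sup_right hq'
      rw [← h1 x hx, ← hg.map_conj hxm hqm, ← hg.map_inv hqm,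
        ← hg.map_mul (Subgroup.mul_mem _ (Subgroup.mul_mem _ hxm hqm) (Subgroup.inv_mem _ hxm)) (Subgroup.inv_mem _ hqm)]
      exact H87.Basic.mem_of_stronglyClosed hT hg
        (Subgroup.mul_mem _ (Subgroup.mul_mem _ (Subgroup.mul_mem _ hxm hqm) (Subgroup.inv_mem _ hxm)) (Subgroup.inv_mem _ hqm))
        (hx2 q' hq')
    · obtain ⟨q', hq', rfl⟩ := h3 q hq
      have hqm : q' ∈ P ⊔ Q := Subgroup.mem_sup_right hq'.1
      rw [← h1 x hx, ← hg.map_conj hxm hqm, hx3 q' hq']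
  -- the centralizer of `Q`
  set ZQ := centralizerIn S Q with hZQ
  have memZ : ∀ x, x ∈ ZQ ↔ x ∈ S ∧ ∀ q ∈ Q, q * x = x * q := fun x => H86.FusSat.mem_centralizerIn
  have hZQQ : ZQ ≤ Q := hQc
  have hZsc : F.StronglyClosed ZQ := by
    refine H87.Basic.stronglyClosed_iff.2 ⟨inf_le_left, fun P f hP hf x hx => ?_⟩
    obtain ⟨g, hg, h1, h2, h3⟩ := hext P f hf
    obtain ⟨hx1, hx2⟩ := (memZ x).1 (hP hx)
    have hxm : x ∈ P ⊔ Q := Subgroup.mem_sup_left hx
    rw [memZ]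
    refine ⟨hf.mem hx, fun q hq => ?_⟩
    obtain ⟨q', hq', rfl⟩ := h2 q hq
    have hqm : q' ∈ P ⊔ Q := Subgroup.mem_sup_right hq'
    rw [← h1 x hx, ← hg.map_mul hqm hxm, ← hg.map_mul hxm hqm, hx2 q' hq']
  have hSZ := le_normalizer hZsc
  -- the chain
  have hDn : F.IsNormal D := by
    let d : ℕ → Subgroup Ω := fun i => match i with
      | 0 => ⊥
      | 1 => ZQ ⊓ T
      | 2 => ZQ
      | _ => D
    refine isNormal_of_stronglyClosed_chain hS hs d 3 rfl rfl hDsc ?_ ?_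
    · intro i hi
      interval_cases i
      · exact stronglyClosed_inf hZsc hT
      · exact hZsc
      · exact hDsc
    · intro i hi
      interval_cases i
      · change ⁅D, ZQ ⊓ T⁆ ≤ ⊥
        rw [Subgroup.commutator_le]
        intro a ha z hz
        rw [Subgroup.mem_bot, commutatorElement_def, ha.2.2 z ⟨hZQQ hz.1, hz.2⟩, mul_inv_cancel]
      · change ⁅D, ZQ⁆ ≤ ZQ ⊓ T
        rw [Subgroup.commutator_le]
        intro a ha z hz
        rw [commutatorElement_def]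
        exact ⟨ZQ.mul_mem ((Subgroup.mem_normalizer_iff.1 (hSZ ha.1) z).1 hz) (ZQ.inv_mem hz), ha.2.1 z (hZQQ hz)⟩
      · change ⁅D, D⁆ ≤ ZQ
        rw [Subgroup.commutator_le]
        intro a ha b hb
        -- actions on `Q`
        have hconj : ∀ x ∈ S, ∀ q ∈ Q, x * q * x⁻¹ ∈ Q := fun x hx q hq => (Subgroup.mem_normalizer_iff.1 (hSQ hx) q).1 hq
        have hcomm : ∀ c ∈ D, ∀ q ∈ Q, ∀ t ∈ Q ⊓ T, t * (c * q * c⁻¹ * q⁻¹) = (c * q * c⁻¹ * q⁻¹) * t := by
          intro c hc q hq t ht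
          have h1 : q⁻¹ * t * q ∈ Q ⊓ T := by
            refine ⟨Q.mul_mem (Q.mul_mem (Q.inv_mem hq) ht.1) hq, ?_⟩
            have := (Subgroup.mem_normalizer_iff.1 (hST (S.inv_mem (hQS hq))) t).1 ht.2
            rwa [inv_inv] at this
          have h2 := hc.2.2 _ h1
          have h3 := hc.2.2 t ht
          have h4 : t = c * q * c⁻¹ * q⁻¹ * t * (c * q * c⁻¹ * q⁻¹)⁻¹ := by
            calc t = c * t * c⁻¹ := h3.symm
              _ = c * q * (q⁻¹ * t * q) * q⁻¹ * c⁻¹ := by group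
              _ = c * q * (c⁻¹ * (c * (q⁻¹ * t * q) * c⁻¹) * c) * q⁻¹ * c⁻¹ := by group
              _ = c * q * (c⁻¹ * (q⁻¹ * t * q) * c) * q⁻¹ * c⁻¹ := by rw [h2]
              _ = _ := by group
          calc t * (c * q * c⁻¹ * q⁻¹) = (c * q * c⁻¹ * q⁻¹ * t * (c * q * c⁻¹ * q⁻¹)⁻¹) * (c * q * c⁻¹ * q⁻¹) := by rw [← h4]
            _ = _ := by group
        have hact : ∀ q ∈ Q, a * (b * q * b⁻¹) * a⁻¹ = b * (a * q * a⁻¹) * b⁻¹ := by
          intro q hq
          set ta := a * q * a⁻¹ * q⁻¹ with hta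
          set tb := b * q * b⁻¹ * q⁻¹ with htb
          have hta' : ta ∈ Q ⊓ T := ⟨Q.mul_mem (hconj a ha.1 q hq) (Q.inv_mem hq), ha.2.1 q hq⟩
          have htb' : tb ∈ Q ⊓ T := ⟨Q.mul_mem (hconj b hb.1 q hq) (Q.inv_mem hq), hb.2.1 q hq⟩
          have e1 : b * q * b⁻¹ = tb * q := by rw [htb]; group
          have e2 : a * q * a⁻¹ = ta * q := by rw [hta]; group
          have e3 : a * (tb * q) * a⁻¹ = (a * tb * a⁻¹) * (a * q * a⁻¹) := by group
          have e4 : b * (ta * q) * b⁻¹ = (b * ta * b⁻¹) * (b * q * b⁻¹) := by group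
          have h5 : tb * ta = ta * tb := hcomm a ha q hq tb htb'
          rw [e1, e2, e3, e4, ha.2.2 tb htb', hb.2.2 ta hta', e1, e2]
          calc tb * (ta * q) = (tb * ta) * q := by group
            _ = ta * (tb * q) := by rw [h5]; group
        rw [memZ]
        have haS := ha.1
        have hbS := hb.1
        refine ⟨?_, fun q hq => ?_⟩
        · rw [commutatorElement_def]
          exact S.mul_mem (S.mul_mem (S.mul_mem haS hbS) (S.inv_mem haS)) (S.inv_mem hbS)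
        · rw [commutatorElement_def]
          have hq' : a⁻¹ * (b⁻¹ * q * b) * a ∈ Q := by
            have h1 := hconj b⁻¹ (S.inv_mem hbS) q hq
            have h2 := hconj a⁻¹ (S.inv_mem haS) _ h1
            simpa using h2
          have h3 := hact _ hq'
          have h4 : b * (a * (a⁻¹ * (b⁻¹ * q * b) * a) * a⁻¹) * b⁻¹ = q := by group
          rw [h4] at h3
          calc q * (a * b * a⁻¹ * b⁻¹) = a * (b * (a⁻¹ * (b⁻¹ * q * b) * a) * b⁻¹) * a⁻¹ * (a * b * a⁻¹ * b⁻¹) := by rw [h3]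
            _ = _ := by group
  have hDQ : D ≤ Q := isNormal_le_core hDn
  intro x hx
  rw [H86.FusSat.mem_centralizerIn] at hx
  refine ⟨hDQ ⟨hT.1 hx.1, fun q hq => ?_, fun q hq => ?_⟩, hx.1⟩
  · have h1 := (Subgroup.mem_normalizer_iff.1 (hST (hQS hq)) x⁻¹).1 (T.inv_mem hx.1)
    have h2 := T.mul_mem hx.1 h1
    have e : x * (q * x⁻¹ * q⁻¹) = x * q * x⁻¹ * q⁻¹ := by group
    rwa [e] at h2
  · rw [← hx.2 q hq, mul_inv_cancel_right]

/-- A strongly closed saturated subsystem of a constrained system is constrained. -/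
theorem constrained_of [Finite S] {p : ℕ} [Fact p.Prime] (hS : IsPGroup p S) {F : FusionSystem S}
    (hF : F.IsConstrained p) {E : FusionSystem T} (hE : E.IsSaturated p) (hEF : E.IsSubsystemOf F)
    (hT : F.StronglyClosed T) : E.IsConstrained p := by
  have hQ : F.IsNormal F.core := H87.Basic.isNormal_core F
  have : Finite T := H87.Basic.finite_of_le hT.1
  exact ⟨hE, F.core ⊓ T, inf_isNormal hS hF.1 hE hEF hT hQ,
    centric_of_le_of_stronglyClosed
      (stronglyClosed_of_sub hEF (stronglyClosed_inf (stronglyClosed_of_isNormal hQ) hT) inf_le_right)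
      (centralizer_core_inf_le hS hF hT)⟩

theorem constrained_of_subnormal {p : ℕ} {F : FusionSystem S} {E : FusionSystem T}
    (h : E.IsSubnormalIn F p) (hp' : p.Prime) : Finite S → IsPGroup p S → F.IsConstrained p → E.IsConstrained p := by
  induction h with
  | refl F p => exact fun _ _ h => h
  | step _ hD ih =>
    intro hfin hp hF
    have := Fact.mk hp'
    specialize ih hp'
    have hT := hD.1.2.2.2.1
    have := H87.Basic.finite_of_le hT.1
    exact ih this (hp.to_le hT.1) (constrained_of hp hF hD.1.1 hD.1.2.2.1 hT)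

end H90.FusNormal
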