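import Cfsg.Agent.Lib.H87.NE3
import Cfsg.Agent.Lib.H90.Transfer
set_option autoImplicit false

open Cfsg Cfsg.FusionSystem

namespace H90.CSE1
open H87.Base H87.Basic H87.Syl H87.Sat H87.Grow H87.Inv H87.Frat H87.Cut H87.PPow H87.Crit H87.PPr H87.NE H87.CMap

variable {Ω : Type*} [Group Ω] {S T : Subgroup Ω} {F : FusionSystem S} {E D : FusionSystem T}
  {P Q R M U : Subgroup Ω} {f g h a b : Ω → Ω} {p : ℕ}

/-- a coprime automorphism whose displacement at `c` is fixed, fixes `c`. -/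
theorem fix_of_fix [Fact p.Prime] [Finite U] (hU : IsPGroup p U) {β : MulAut U} (ho : (orderOf β).Coprime p)
    {c : Ω} (hc : c ∈ U) (h : fn β (c⁻¹ * fn β c) = c⁻¹ * fn β c) : fn β c = c := by
  have hz : c⁻¹ * fn β c ∈ U := U.mul_mem (U.inv_mem hc) (fn_mem β hc)
  have h1 : ∀ m : ℕ, fn (β ^ m) c = c * (c⁻¹ * fn β c) ^ m := by
    intro m
    induction m with
    | zero => rw [pow_zero, pow_zero, fn_one hc, mul_one]
    | succ m ih =>
      have hpm := U.pow_mem hz m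
      have hp : ∀ k : ℕ, fn β ((c⁻¹ * fn β c) ^ k) = (c⁻¹ * fn β c) ^ k := by
        intro k
        induction k with
        | zero =>
          have h3 : fn β (1 * 1) = fn β 1 * fn β 1 := fn_map_mul β U.one_mem U.one_mem
          rw [one_mul] at h3
          rw [pow_zero]
          exact left_eq_mul.1 h3
        | succ k ihk => rw [pow_succ, fn_map_mul β (U.pow_mem hz k) hz, ihk, h]
      rw [fn_pow_succ β m hc, ih, fn_map_mul β hc hpm, hp, pow_succ', ← mul_assoc, mul_inv_cancel_left]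
  have h2 := h1 (orderOf β)
  rw [pow_orderOf_eq_one, fn_one hc] at h2
  have h3 : (c⁻¹ * fn β c) ^ orderOf β = 1 := (mul_eq_left.1 h2.symm)
  obtain ⟨k, hk⟩ := hU ⟨_, hz⟩
  have h4 : (c⁻¹ * fn β c) ^ p ^ k = 1 := by
    have := congrArg (fun z : U => (z : Ω)) hk
    simpa only [Subgroup.coe_pow, Subgroup.coe_one] using this
  have h5 : orderOf (c⁻¹ * fn β c) = 1 :=
    Nat.eq_one_of_dvd_coprimes (ho.pow_right k) (orderOf_dvd_of_pow_eq_one h3) (orderOf_dvd_of_pow_eq_one h4)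
  have h6 := orderOf_eq_one_iff.1 h5
  exact (inv_mul_eq_one.1 h6).symm

/-- the subgroup of fixed points -/
def fixS {U : Subgroup Ω} (β : MulAut U) : Subgroup Ω where
  carrier := {x | x ∈ U ∧ fn β x = x}
  mul_mem' := by
    rintro x y ⟨h1, h2⟩ ⟨h3, h4⟩
    exact ⟨U.mul_mem h1 h3, by rw [fn_map_mul β h1 h3, h2, h4]⟩
  one_mem' := ⟨U.one_mem, by
    have h3 : fn β (1 * 1) = fn β 1 * fn β 1 := fn_map_mul β U.one_mem U.one_mem
    rw [one_mul] at h3
    exact left_eq_mul.1 h3⟩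
  inv_mem' := by
    rintro x ⟨h1, h2⟩
    refine ⟨U.inv_mem h1, ?_⟩
    have h3 : fn β (x * x⁻¹) = fn β x * fn β x⁻¹ := fn_map_mul β h1 (U.inv_mem h1)
    have h4 : fn β (1 * 1) = fn β 1 * fn β 1 := fn_map_mul β U.one_mem U.one_mem
    rw [one_mul] at h4
    rw [mul_inv_cancel, left_eq_mul.1 h4, h2] at h3
    exact (inv_eq_of_mul_eq_one_right h3.symm).symm

theorem mem_fixS {β : MulAut U} {x : Ω} : x ∈ fixS β ↔ x ∈ U ∧ fn β x = x := Iff.rfl

/-- `β` is a `p'`-automorphism of `Q C_S(Q)` stabilising `Q` and moving `C_S(Q)` inside `Q`. -/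
structure Cp (F : FusionSystem S) (p : ℕ) (Q : Subgroup Ω) (β : MulAut ↥(Q ⊔ centralizerIn S Q)) : Prop where
  mem : β ∈ F.autGroup (Q ⊔ centralizerIn S Q)
  ord : (orderOf β).Coprime p
  maps : ∀ x ∈ Q, fn β x ∈ Q
  cent : ∀ c ∈ centralizerIn S Q, c⁻¹ * fn β c ∈ Q

theorem sup_cent_le (hQ : Q ≤ S) : Q ⊔ centralizerIn S Q ≤ S := sup_le hQ inf_le_left

theorem Cp.isoQ [Finite S] {β : MulAut ↥(Q ⊔ centralizerIn S Q)} (h : Cp F p Q β) (hQ : Q ≤ S) :
    IsIso F Q Q (fn β) :=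
  H87.ConstrEq.isIso_of_self ((fn_iso (sup_cent_le hQ) h.mem).isMap.mono le_sup_left) h.maps

theorem Cp.mem_cent [Finite S] {β : MulAut ↥(Q ⊔ centralizerIn S Q)} (h : Cp F p Q β) (hQ : Q ≤ S) {c : Ω}
    (hc : c ∈ centralizerIn S Q) : fn β c ∈ centralizerIn S Q :=
  map_centralizer (fn_iso (sup_cent_le hQ) h.mem).isMap le_sup_left (h.isoQ hQ) (Subgroup.mem_sup_right hc) hc

/-- the displacement of `c` is in `Z(Q)`. -/
theorem Cp.disp [Finite S] {β : MulAut ↥(Q ⊔ centralizerIn S Q)} (h : Cp F p Q β) (hQ : Q ≤ S) {c : Ω}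
    (hc : c ∈ centralizerIn S Q) : c⁻¹ * fn β c ∈ Q ⊓ centralizerIn S Q :=
  ⟨h.cent c hc, Subgroup.mul_mem _ (Subgroup.inv_mem _ hc) (h.mem_cent hQ hc)⟩

theorem comm_of_cent {x c : Ω} (hx : x ∈ Q) (hc : c ∈ centralizerIn S Q) : x * c = c * x :=
  (mem_centralizerIn.1 hc).2 x hx

theorem isCentral_of_inf {C : FusionSystem (centralizerIn S Q)} (hC : F.IsCentralizerSystem Q C) :
    C.IsCentral (Q ⊓ centralizerIn S Q) := by
  rw [isCentral_iff]
  refine ⟨inf_le_right, fun P f hf => ?_⟩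
  have hf' := (isMap_centralizer_iff hC).1 hf
  obtain ⟨h1, h2, g, hg, g1, g2⟩ := hf'
  refine ⟨g, (isMap_centralizer_iff hC).2 ⟨sup_le h1 inf_le_right, ?_, g, hg.mono ?_, fun _ _ => rfl, g2⟩, g1,
    fun x hx => g2 x hx.1⟩
  · have hg' : IsMap F (P ⊔ Q ⊓ centralizerIn S Q) g := hg.mono (sup_le_sup_left inf_le_left _)
    refine mem_of_sup hg' (fun x hx => by rw [g1 x hx]; exact h2 x hx) fun x hx => ?_
    rw [g2 x hx.1]; exact hx.2
  · exact sup_le (sup_le_sup_left inf_le_left _) le_sup_right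

theorem focal_mem_iff {V : Subgroup Ω} {C : FusionSystem V} {K : Subgroup Ω}
    (h : ∀ x f, IsMap C (Subgroup.zpowers x) f → x⁻¹ * f x ∈ K) : C.focalSubgroup ≤ K := by
  unfold FusionSystem.focalSubgroup
  rw [Subgroup.closure_le]
  rintro _ ⟨P, φ, x, hφ, rfl⟩
  have h1 : IsMap C P (extFun φ) := isMap_of_mem hφ
  have h2 := h (x : Ω) (extFun φ) (h1.mono (by rw [Subgroup.zpowers_le]; exact x.2))
  rwa [extFun_coe] at h2

theorem mem_focal {V : Subgroup Ω} {C : FusionSystem V} (hf : IsMap C P f) {x : Ω} (hx : x ∈ P) :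
    x⁻¹ * f x ∈ C.focalSubgroup := by
  obtain ⟨φ, hφ, e⟩ := hf
  refine Subgroup.subset_closure ⟨P, φ, ⟨x, hx⟩, hφ, ?_⟩
  rw [e]

/-- Lemma G -/
theorem fix_focal [Fact p.Prime] [Finite S] (hS : IsPGroup p S) (hF : F.IsSaturated p)
    (hQ : F.IsFullyCentralized Q) {C : FusionSystem (centralizerIn S Q)} (hC : F.IsCentralizerSystem Q C)
    {β : MulAut ↥(Q ⊔ centralizerIn S Q)} (hβ : Cp F p Q β) {v : Ω} (hv : v ∈ C.focalSubgroup) : fn β v = v := by
  have hQS : Q ≤ S := hQ.1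
  have hUS := sup_cent_le (S := S) hQS
  have hUfin : Finite ↥(Q ⊔ centralizerIn S Q) := finite_of_le hUS
  have hVfin : Finite ↥(centralizerIn S Q) := finite_of_le inf_le_left
  have hUp : IsPGroup p ↥(Q ⊔ centralizerIn S Q) := hS.to_le hUS
  have hVp : IsPGroup p ↥(centralizerIn S Q) := hS.to_le inf_le_left
  have hCs := H89.KSat3.centralizer_saturated hS hF hQ hC
  have hβi := fn_iso hUS hβ.mem
  have hVU : centralizerIn S Q ≤ Q ⊔ centralizerIn S Q := le_sup_right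
  -- commutators are fixed
  have hcomm : ⁅centralizerIn S Q, centralizerIn S Q⁆ ≤ fixS β := by
    rw [Subgroup.commutator_le]
    intro x hx y hy
    have hxU := hVU hx
    have hyU := hVU hy
    refine ⟨hVU (Subgroup.mul_mem _ (Subgroup.mul_mem _ (Subgroup.mul_mem _ hx hy) (Subgroup.inv_mem _ hx))
      (Subgroup.inv_mem _ hy)), ?_⟩
    have hzx := hβ.disp hQS hx
    have hzy := hβ.disp hQS hy
    have ex : fn β x = x * (x⁻¹ * fn β x) := by group
    have ey : fn β y = y * (y⁻¹ * fn β y) := by group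
    generalize x⁻¹ * fn β x = zx at hzx ex
    generalize y⁻¹ * fn β y = zy at hzy ey
    have e1 : fn β (x * y * x⁻¹ * y⁻¹) = fn β x * fn β y * (fn β x)⁻¹ * (fn β y)⁻¹ := by
      rw [hβi.isMap.map_mul (Subgroup.mul_mem _ (Subgroup.mul_mem _ hxU hyU) (Subgroup.inv_mem _ hxU)) (Subgroup.inv_mem _ hyU),
        hβi.isMap.map_mul (Subgroup.mul_mem _ hxU hyU) (Subgroup.inv_mem _ hxU),
        hβi.isMap.map_mul hxU hyU, hβi.isMap.map_inv hxU, hβi.isMap.map_inv hyU]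
    rw [commutatorElement_def, e1, ex, ey]
    have c1 : zx * x = x * zx := comm_of_cent hzx.1 hx
    have c2 : zx * y = y * zx := comm_of_cent hzx.1 hy
    have c3 : zy * x = x * zy := comm_of_cent hzy.1 hx
    have c4 : zy * y = y * zy := comm_of_cent hzy.1 hy
    have c5 : zx * zy = zy * zx := comm_of_cent hzx.1 hzy.2
    rw [mul_inv_rev, mul_inv_rev]
    have d1 : zx * (y * zy) = (y * zy) * zx := by rw [← mul_assoc, c2, mul_assoc, c5, ← mul_assoc]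
    calc x * zx * (y * zy) * (zx⁻¹ * x⁻¹) * (zy⁻¹ * y⁻¹)
        = x * (zx * (y * zy)) * zx⁻¹ * x⁻¹ * (zy⁻¹ * y⁻¹) := by simp only [mul_assoc]
      _ = x * ((y * zy) * zx) * zx⁻¹ * x⁻¹ * (zy⁻¹ * y⁻¹) := by rw [d1]
      _ = x * y * (zy * x⁻¹) * zy⁻¹ * y⁻¹ := by group
      _ = x * y * (x⁻¹ * zy) * zy⁻¹ * y⁻¹ := by
          have : zy * x⁻¹ = x⁻¹ * zy := by
            calc zy * x⁻¹ = x⁻¹ * (x * zy) * x⁻¹ := by group
              _ = x⁻¹ * (zy * x) * x⁻¹ := by rw [c3]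
              _ = _ := by group
          rw [this]
      _ = _ := by group
  refine (show C.focalSubgroup ≤ fixS β from focal_mem_iff fun u f hf => ?_) hv |>.2
  have hf' := (isMap_centralizer_iff hC).1 hf
  obtain ⟨h1, h2, g, hg, g1, g2⟩ := hf'
  have huP : u ∈ Subgroup.zpowers u := Subgroup.mem_zpowers u
  have huV : u ∈ centralizerIn S Q := h1 huP
  have hfuV : f u ∈ centralizerIn S Q := h2 u huP
  have huU := hVU huV
  have hfuU := hVU hfuV
  have hzu := hβ.disp hQS huV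
  have hzf := hβ.disp hQS hfuV
  have eu : fn β u = u * (u⁻¹ * fn β u) := by group
  have ef : fn β (f u) = f u * ((f u)⁻¹ * fn β (f u)) := by group
  generalize u⁻¹ * fn β u = zu at hzu eu
  generalize (f u)⁻¹ * fn β (f u) = zf at hzf ef
  -- the conjugated map
  have hPQU : Subgroup.zpowers u ⊔ Q ≤ Q ⊔ centralizerIn S Q := sup_le (h1.trans le_sup_right) le_sup_left
  obtain ⟨l, hl, l1, l2⟩ := ((hβi.isMap.mono hPQU).isIso).symm
  have hgU : ∀ x ∈ Subgroup.zpowers u ⊔ Q, g x ∈ Q ⊔ centralizerIn S Q := by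
    refine mem_of_sup hg (fun x hx => ?_) fun x hx => ?_
    · rw [g1 x hx]; exact hVU (h2 x hx)
    · rw [g2 x hx]; exact Subgroup.mem_sup_left hx
  have hk : IsMap F (img (Subgroup.zpowers u ⊔ Q) (fn β)) (fn β ∘ (g ∘ l)) :=
    (hl.isMap.comp hg fun x hx => hl.mem hx).comp hβi.isMap fun x hx => hgU _ (hl.mem hx)
  have hkQ : ∀ x ∈ Q, x ∈ img (Subgroup.zpowers u ⊔ Q) (fn β) ∧ (fn β ∘ (g ∘ l)) x = x := by
    intro x hx
    obtain ⟨y, hy, rfl⟩ := (hβ.isoQ hQS).surj hx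
    refine ⟨apply_mem_img (Subgroup.mem_sup_right hy), ?_⟩
    show fn β (g (l (fn β y))) = _
    rw [l1 y (Subgroup.mem_sup_right hy), g2 y hy]
  have hku : (fn β ∘ (g ∘ l)) (fn β u) = fn β (f u) := by
    show fn β (g (l (fn β u))) = _
    rw [l1 u (Subgroup.mem_sup_left huP), g1 u huP]
  have hum : u ∈ img (Subgroup.zpowers u ⊔ Q) (fn β) := by
    have e0 : u = fn β u * zu⁻¹ := by rw [eu]; group
    have e1 : fn β u * zu⁻¹ ∈ img (Subgroup.zpowers u ⊔ Q) (fn β) :=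
      Subgroup.mul_mem _ (apply_mem_img (Subgroup.mem_sup_left huP)) (Subgroup.inv_mem _ (hkQ zu hzu.1).1)
    rwa [← e0] at e1
  have hku2 : (fn β ∘ (g ∘ l)) u = f u * (zf * zu⁻¹) := by
    have e1 : u = fn β u * zu⁻¹ := by rw [eu]; group
    have e2 := hk.map_mul (x := fn β u) (y := zu⁻¹) (apply_mem_img (Subgroup.mem_sup_left huP))
      (Subgroup.inv_mem _ (hkQ zu hzu.1).1)
    rw [← e1, hku, (hkQ zu⁻¹ (Q.inv_mem hzu.1)).2, ef] at e2
    rw [e2]; group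
  have hwV : f u * (zf * zu⁻¹) ∈ centralizerIn S Q :=
    Subgroup.mul_mem _ hfuV (Subgroup.mul_mem _ hzf.2 (Subgroup.inv_mem _ hzu.2))
  have hkC : CMap F Q (Subgroup.zpowers u) (fn β ∘ (g ∘ l)) := by
    have hz : Subgroup.zpowers u ⊔ Q ≤ img (Subgroup.zpowers u ⊔ Q) (fn β) :=
      sup_le (by rw [Subgroup.zpowers_le]; exact hum) fun x hx => (hkQ x hx).1
    refine ⟨h1, ?_, _, hk.mono hz, fun _ _ => rfl, fun x hx => (hkQ x hx).2⟩
    intro x hx
    have h3 : IsMap F (Subgroup.zpowers u) (fn β ∘ (g ∘ l)) := hk.mono (le_sup_left.trans hz)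
    obtain ⟨n, rfl⟩ := Subgroup.mem_zpowers_iff.1 hx
    have h4 : (fn β ∘ (g ∘ l)) (u ^ n) = ((fn β ∘ (g ∘ l)) u) ^ n := by
      obtain ⟨φ, hφ, e⟩ := h3
      have := map_zpow φ ⟨u, huP⟩ n
      rw [e ⟨u, huP⟩] at this
      rw [← e ⟨u ^ n, hx⟩]
      exact this
    rw [h4, hku2]
    exact Subgroup.zpow_mem _ hwV n
  have hfoc1 : u⁻¹ * f u ∈ C.focalSubgroup := mem_focal hf huP
  have hfoc2 : u⁻¹ * (f u * (zf * zu⁻¹)) ∈ C.focalSubgroup := by
    rw [← hku2]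
    exact mem_focal ((isMap_centralizer_iff hC).2 hkC) huP
  have hw : zf * zu⁻¹ ∈ C.focalSubgroup := by
    have : zf * zu⁻¹ = (u⁻¹ * f u)⁻¹ * (u⁻¹ * (f u * (zf * zu⁻¹))) := by group
    rw [this]
    exact Subgroup.mul_mem _ (Subgroup.inv_mem _ hfoc1) hfoc2
  have hwZ : zf * zu⁻¹ ∈ C.center :=
    IsCentral.le_center (isCentral_of_inf hC) (Subgroup.mul_mem _ hzf (Subgroup.inv_mem _ hzu))
  have hwc := hcomm (H90.Transfer.foc_inf_center_le hVp hCs ⟨hw, hwZ⟩)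
  have huf : u⁻¹ * f u ∈ Q ⊔ centralizerIn S Q := Subgroup.mul_mem _ (Subgroup.inv_mem _ huU) hfuU
  refine ⟨huf, fix_of_fix hUp hβ.ord huf ?_⟩
  have e3 : fn β (u⁻¹ * f u) = (u⁻¹ * f u) * (zf * zu⁻¹) := by
    rw [hβi.isMap.map_mul (Subgroup.inv_mem _ huU) hfuU, hβi.isMap.map_inv huU, ef, eu, mul_inv_rev]
    have c1 : zu * u = u * zu := comm_of_cent hzu.1 huV
    have c2 : zu * (f u) = f u * zu := comm_of_cent hzu.1 hfuV
    have c3 : zu * zf = zf * zu := comm_of_cent hzu.1 hzf.2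
    have d1 : zu * (u⁻¹ * (f u * zf)) = (u⁻¹ * (f u * zf)) * zu := by
      have hm : u⁻¹ * (f u * zf) ∈ centralizerIn S Q :=
        Subgroup.mul_mem _ (Subgroup.inv_mem _ huV) (Subgroup.mul_mem _ hfuV hzf.2)
      exact comm_of_cent hzu.1 hm
    calc zu⁻¹ * u⁻¹ * (f u * zf) = zu⁻¹ * (u⁻¹ * (f u * zf)) := by group
      _ = zu⁻¹ * ((u⁻¹ * (f u * zf)) * zu) * zu⁻¹ := by group
      _ = zu⁻¹ * (zu * (u⁻¹ * (f u * zf))) * zu⁻¹ := by rw [d1]
      _ = _ := by group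
  rw [e3]
  have e4 : (u⁻¹ * f u)⁻¹ * (u⁻¹ * f u * (zf * zu⁻¹)) = zf * zu⁻¹ := by group
  rw [e4]
  exact hwc.2

end H90.CSE1
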