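import Cfsg.Agent.Lib.H90.CSE1
set_option autoImplicit false

open Cfsg Cfsg.FusionSystem

namespace H90.CSE2
open H87.Base H87.Basic H87.Syl H87.Sat H87.Grow H87.Inv H87.Frat H87.Cut H87.PPow H87.Crit H87.PPr H87.NE H87.CMap
open H90.CSE1

variable {Ω : Type*} [Group Ω] {S T : Subgroup Ω} {F : FusionSystem S} {E D : FusionSystem T}
  {P Q R M U X : Subgroup Ω} {f g h a b ρ : Ω → Ω} {p : ℕ}

/-- the test data for membership in `C_S(E)`. -/
structure Dat (F : FusionSystem S) {T : Subgroup Ω} (E : FusionSystem T) (p : ℕ) (P Q : Subgroup Ω) (ρ : Ω → Ω)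
    (β : MulAut ↥(Q ⊔ centralizerIn S Q)) : Prop where
  tc : TC F T P
  map : IsMap F (P ⊔ centralizerIn S T) ρ
  iso : IsIso F P Q ρ
  fnorm : F.IsFullyNormalized Q
  cp : Cp F p Q β
  aut : ∃ α ∈ E.autGroup Q, ∀ x ∈ Q, fn β x = fn α x

theorem centT_le (hP : P ≤ T) : centralizerIn S T ≤ centralizerIn S P := centralizerIn_anti hP

theorem Dat.rho_mem {β : MulAut ↥(Q ⊔ centralizerIn S Q)} (d : Dat F E p P Q ρ β) {x : Ω}
    (hx : x ∈ centralizerIn S T) : ρ x ∈ centralizerIn S Q :=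
  map_centralizer d.map le_sup_left d.iso (Subgroup.mem_sup_right hx) (centT_le d.tc.1 hx)

/-- `C_S(E)` -/
def CS (F : FusionSystem S) {T : Subgroup Ω} (E : FusionSystem T) (p : ℕ) : Subgroup Ω where
  carrier := {x | x ∈ centralizerIn S T ∧ ∀ P Q ρ β, Dat F E p P Q ρ β → fn β (ρ x) = ρ x}
  mul_mem' := by
    rintro x y ⟨h1, h2⟩ ⟨h3, h4⟩
    refine ⟨Subgroup.mul_mem _ h1 h3, fun P Q ρ β d => ?_⟩
    rw [d.map.map_mul (Subgroup.mem_sup_right h1) (Subgroup.mem_sup_right h3),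
      fn_map_mul β (Subgroup.mem_sup_right (d.rho_mem h1)) (Subgroup.mem_sup_right (d.rho_mem h3)), h2 _ _ _ _ d,
      h4 _ _ _ _ d]
  one_mem' := by
    refine ⟨Subgroup.one_mem _, fun P Q ρ β d => ?_⟩
    rw [d.map.map_one]
    exact (fixS β).one_mem.2
  inv_mem' := by
    rintro x ⟨h1, h2⟩
    refine ⟨Subgroup.inv_mem _ h1, fun P Q ρ β d => ?_⟩
    rw [d.map.map_inv (Subgroup.mem_sup_right h1)]
    exact ((fixS β).inv_mem (x := ρ x) ⟨Subgroup.mem_sup_right (d.rho_mem h1), h2 _ _ _ _ d⟩).2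

theorem mem_CS {x : Ω} : x ∈ CS F E p ↔ x ∈ centralizerIn S T ∧ ∀ P Q ρ β, Dat F E p P Q ρ β → fn β (ρ x) = ρ x :=
  Iff.rfl

theorem CS_le : CS F E p ≤ centralizerIn S T := fun _ h => h.1

/-- `C_F(X) ≥ E` implies `X ≤ C_S(E)`. -/
theorem le_CS_of [Fact p.Prime] [Finite S] (hS : IsPGroup p S) (hF : F.IsSaturated p) (hI : SInv F E)
    (hT : F.StronglyClosed T) (hXT : X ≤ centralizerIn S T) (hX : ∀ P f, IsMap E P f → CMap F X P f) :
    X ≤ CS F E p := by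
  intro x hx
  have hTS := hT.1
  refine ⟨hXT hx, fun P Q ρ β d => ?_⟩
  obtain ⟨α, hα, eα⟩ := d.aut
  have hPS : P ≤ S := d.tc.1.trans hTS
  have hQT : Q ≤ T := conj_le_of_stronglyClosed hT d.iso.isConj d.tc.1
  have hQS : Q ≤ S := hQT.trans hTS
  have hUS := sup_cent_le (S := S) hQS
  have hUfin : Finite ↥(Q ⊔ centralizerIn S Q) := finite_of_le hUS
  have hUp : IsPGroup p ↥(Q ⊔ centralizerIn S Q) := hS.to_le hUS
  have hβi := fn_iso hUS d.cp.mem
  obtain ⟨l, hl, l1, l2⟩ := d.map.isIso.symm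
  have hQW : Q ≤ img (P ⊔ centralizerIn S T) ρ := by rw [← d.iso.eq_img]; exact img_mono le_sup_left
  have hlQ : ∀ y ∈ Q, l y ∈ P := by
    intro y hy
    obtain ⟨z, hz, rfl⟩ := d.iso.surj hy
    rw [l1 z (Subgroup.mem_sup_left hz)]; exact hz
  have hlQi : img Q l = P := by
    apply le_antisymm
    · intro y hy
      obtain ⟨z, hz, rfl⟩ := (mem_img (hl.isMap.mono hQW)).1 hy
      exact hlQ z hz
    · intro y hy
      rw [← l1 y (Subgroup.mem_sup_left hy)]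
      exact apply_mem_img (d.iso.mem hy)
  have hαi : IsIso E Q Q (fn α) := fn_iso hQT hα
  obtain ⟨g, hg, eg⟩ := hI Q Q (fn α) l le_rfl hQT hαi.isMap (fun y hy => hαi.mem hy) (hl.isMap.mono hQW)
  rw [hlQi] at hg
  have hgP : ∀ z ∈ P, g z ∈ P := by
    intro z hz
    have := eg (ρ z) (d.iso.mem hz)
    rw [l1 z (Subgroup.mem_sup_left hz)] at this
    rw [this]
    exact hlQ _ (hαi.mem (d.iso.mem hz))
  obtain ⟨-, -, g', hg', g1, g2⟩ := hX P g hg
  have hXC : P ⊔ X ≤ P ⊔ centralizerIn S T := sup_le_sup_left hXT _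
  have hg'm : ∀ z ∈ P ⊔ X, g' z ∈ P ⊔ X := by
    refine mem_of_sup hg' (fun z hz => ?_) fun z hz => ?_
    · rw [g1 z hz]; exact Subgroup.mem_sup_left (hgP z hz)
    · rw [g2 z hz]; exact Subgroup.mem_sup_right hz
  set W := img (P ⊔ X) ρ with hW
  have hWle : W ≤ img (P ⊔ centralizerIn S T) ρ := img_mono hXC
  have hρX : IsMap F (P ⊔ X) ρ := d.map.mono hXC
  have hlW : ∀ y ∈ W, l y ∈ P ⊔ X := by
    intro y hy
    obtain ⟨z, hz, rfl⟩ := (mem_img hρX).1 hy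
    rw [l1 z (hXC hz)]; exact hz
  have hk : IsMap F W (ρ ∘ (g' ∘ l)) :=
    ((hl.isMap.mono hWle).comp hg' hlW).comp hρX fun y hy => hg'm _ (hlW y hy)
  have hkm : ∀ y ∈ W, (ρ ∘ (g' ∘ l)) y ∈ W := fun y hy => apply_mem_img (hg'm _ (hlW y hy))
  have hkQ : ∀ y ∈ Q, (ρ ∘ (g' ∘ l)) y = fn α y := by
    intro y hy
    show ρ (g' (l y)) = _
    rw [g1 _ (hlQ y hy), eg y hy, l2 _ (hQW (hαi.mem hy))]
  have hkX : (ρ ∘ (g' ∘ l)) (ρ x) = ρ x := by
    show ρ (g' (l (ρ x))) = _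
    rw [l1 x (Subgroup.mem_sup_right (hXT hx)), g2 x hx]
  have hki : IsIso F W W (ρ ∘ (g' ∘ l)) := H87.ConstrEq.isIso_of_self hk hkm
  obtain ⟨k, hk', k1, k2⟩ := hki.symm
  have hρxW : ρ x ∈ W := apply_mem_img (Subgroup.mem_sup_right hx)
  have hkρ : k (ρ x) = ρ x := by
    have := k1 _ hρxW
    rwa [hkX] at this
  have hQW' : Q ≤ W := by rw [← d.iso.eq_img]; exact img_mono le_sup_left
  have hkq : ∀ y ∈ Q, k y ∈ Q ∧ fn β (k y) = y := by
    intro y hy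
    obtain ⟨z, hz, rfl⟩ := hαi.surj hy
    have := k1 z (hQW' hz)
    rw [hkQ z hz] at this
    rw [this]
    exact ⟨hz, eα z hz⟩
  have hzρ : Subgroup.zpowers (ρ x) ⊔ Q ≤ W := sup_le (by rw [Subgroup.zpowers_le]; exact hρxW) hQW'
  have hWU : ∀ y ∈ Subgroup.zpowers (ρ x) ⊔ Q, k y ∈ Q ⊔ centralizerIn S Q := by
    refine mem_of_sup (hk'.isMap.mono hzρ) (fun y hy => ?_) fun y hy => Subgroup.mem_sup_left (hkq y hy).1
    obtain ⟨n, rfl⟩ := Subgroup.mem_zpowers_iff.1 hy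
    have h4 : k (ρ x ^ n) = ρ x ^ n := by
      obtain ⟨φ, hφ, e⟩ := hk'.isMap
      have := map_zpow φ ⟨ρ x, hρxW⟩ n
      rw [e ⟨ρ x, hρxW⟩] at this
      rw [← e ⟨ρ x ^ n, W.zpow_mem hρxW n⟩]
      rw [hkρ] at this
      exact this
    rw [h4]
    exact Subgroup.mem_sup_right (Subgroup.zpow_mem _ (d.rho_mem (hXT hx)) n)
  have hm : IsMap F (Subgroup.zpowers (ρ x) ⊔ Q) (fn β ∘ k) := (hk'.isMap.mono hzρ).comp hβi.isMap hWU
  obtain ⟨C, hC⟩ := exists_centralizerSystem F hQS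
  have hρC := d.rho_mem (hXT hx)
  have hval : (fn β ∘ k) (ρ x) = fn β (ρ x) := by show fn β (k (ρ x)) = _; rw [hkρ]
  have hCM : CMap F Q (Subgroup.zpowers (ρ x)) (fn β ∘ k) := by
    refine ⟨by rw [Subgroup.zpowers_le]; exact hρC, ?_, _, hm, fun _ _ => rfl, fun y hy => (hkq y hy).2⟩
    intro y hy
    have hmi : IsIso F Q Q (fn β ∘ k) := (isIso_id F hQS).congr fun y hy => ((hkq y hy).2).symm
    refine map_centralizer hm le_sup_right hmi (Subgroup.mem_sup_left hy) ?_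
    exact (by rw [Subgroup.zpowers_le]; exact hρC : Subgroup.zpowers (ρ x) ≤ centralizerIn S Q) hy
  have hfoc : (ρ x)⁻¹ * fn β (ρ x) ∈ C.focalSubgroup := by
    rw [← hval]
    exact mem_focal ((isMap_centralizer_iff hC).2 hCM) (Subgroup.mem_zpowers _)
  have hQc : F.IsFullyCentralized Q :=
    H86.FusSat.fullyCentralized_of_receptive F (H87.Bridge.nice_of_fn hS hF d.fnorm).2
  have hfix := fix_focal hS hF hQc hC d.cp hfoc
  exact fix_of_fix hUp d.cp.ord (Subgroup.mem_sup_right hρC) hfix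

/-- `foc(C_F(T)) ≤ C_S(E)` -/
theorem focal_le_CS [Fact p.Prime] [Finite S] (hS : IsPGroup p S) (hF : F.IsSaturated p)
    (hT : F.StronglyClosed T) {C : FusionSystem (centralizerIn S T)} (hC : F.IsCentralizerSystem T C) :
    C.focalSubgroup ≤ CS F E p := by
  have hTS := hT.1
  refine focal_mem_iff fun u f hf => ?_
  have hu : u ∈ Subgroup.zpowers u := Subgroup.mem_zpowers u
  obtain ⟨h1, h2, g, hg, g1, g2⟩ := (isMap_centralizer_iff hC).1 hf
  have huT := h1 hu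
  have hfuT := h2 u hu
  refine ⟨Subgroup.mul_mem _ (Subgroup.inv_mem _ huT) hfuT, fun P Q ρ β d => ?_⟩
  have hPS : P ≤ S := d.tc.1.trans hTS
  have hQT : Q ≤ T := conj_le_of_stronglyClosed hT d.iso.isConj d.tc.1
  have hQS : Q ≤ S := hQT.trans hTS
  obtain ⟨l, hl, l1, l2⟩ := d.map.isIso.symm
  set W := img (P ⊔ Subgroup.zpowers u) ρ with hW
  have hzC : P ⊔ Subgroup.zpowers u ≤ P ⊔ centralizerIn S T := sup_le_sup_left h1 _
  have hWle : W ≤ img (P ⊔ centralizerIn S T) ρ := img_mono hzC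
  have hρX : IsMap F (P ⊔ Subgroup.zpowers u) ρ := d.map.mono hzC
  have hlW : ∀ y ∈ W, l y ∈ P ⊔ Subgroup.zpowers u := by
    intro y hy
    obtain ⟨z, hz, rfl⟩ := (mem_img hρX).1 hy
    rw [l1 z (hzC hz)]; exact hz
  have hg' : IsMap F (P ⊔ Subgroup.zpowers u) g := hg.mono (sup_le (d.tc.1.trans le_sup_right) le_sup_left)
  have hgm : ∀ z ∈ P ⊔ Subgroup.zpowers u, g z ∈ P ⊔ centralizerIn S T := by
    refine mem_of_sup hg' (fun z hz => ?_) fun z hz => ?_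
    · rw [g2 z (d.tc.1 hz)]; exact Subgroup.mem_sup_left hz
    · rw [g1 z hz]; exact Subgroup.mem_sup_right (h2 z hz)
  have hk : IsMap F W (ρ ∘ (g ∘ l)) :=
    ((hl.isMap.mono hWle).comp hg' hlW).comp d.map fun y hy => hgm _ (hlW y hy)
  have hkQ : ∀ y ∈ Q, (ρ ∘ (g ∘ l)) y = y := by
    intro y hy
    obtain ⟨z, hz, rfl⟩ := d.iso.surj hy
    show ρ (g (l (ρ z))) = _
    rw [l1 z (Subgroup.mem_sup_left hz), g2 z (d.tc.1 hz)]
  have hku : (ρ ∘ (g ∘ l)) (ρ u) = ρ (f u) := by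
    show ρ (g (l (ρ u))) = _
    rw [l1 u (Subgroup.mem_sup_right (h1 hu)), g1 u hu]
  have hQW : Q ≤ W := by rw [← d.iso.eq_img]; exact img_mono le_sup_left
  have hρuW : ρ u ∈ W := apply_mem_img (Subgroup.mem_sup_right hu)
  have hzρ : Subgroup.zpowers (ρ u) ⊔ Q ≤ W := sup_le (by rw [Subgroup.zpowers_le]; exact hρuW) hQW
  obtain ⟨C', hC'⟩ := exists_centralizerSystem F hQS
  have hρC : Subgroup.zpowers (ρ u) ≤ centralizerIn S Q := by rw [Subgroup.zpowers_le]; exact d.rho_mem huT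
  have hCM : CMap F Q (Subgroup.zpowers (ρ u)) (ρ ∘ (g ∘ l)) := by
    refine ⟨hρC, ?_, _, hk.mono hzρ, fun _ _ => rfl, hkQ⟩
    intro y hy
    have hmi : IsIso F Q Q (ρ ∘ (g ∘ l)) := (isIso_id F hQS).congr fun y hy => (hkQ y hy).symm
    exact map_centralizer (hk.mono hzρ) le_sup_right hmi (Subgroup.mem_sup_left hy) (hρC hy)
  have hfoc : (ρ u)⁻¹ * ρ (f u) ∈ C'.focalSubgroup := by
    rw [← hku]
    exact mem_focal ((isMap_centralizer_iff hC').2 hCM) (Subgroup.mem_zpowers _)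
  have hQc : F.IsFullyCentralized Q :=
    H86.FusSat.fullyCentralized_of_receptive F (H87.Bridge.nice_of_fn hS hF d.fnorm).2
  have hfix := fix_focal hS hF hQc hC' d.cp hfoc
  rw [d.map.map_mul (Subgroup.mem_sup_right (Subgroup.inv_mem _ huT)) (Subgroup.mem_sup_right hfuT),
    d.map.map_inv (Subgroup.mem_sup_right huT)]
  exact hfix

end H90.CSE2
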