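import Cfsg.Agent.Lib.H90.CSE2
set_option autoImplicit false

open Cfsg Cfsg.FusionSystem

namespace H90.CSE3
open H87.Base H87.Basic H87.Syl H87.Sat H87.Grow H87.Inv H87.Frat H87.Cut H87.PPow H87.Crit H87.PPr H87.NE H87.CMap
open H90.CSE1 H90.CSE2

theorem gen_of_syl {G : Type*} [Group G] {p : ℕ} [Fact p.Prime] {V A B : Subgroup G} [Finite A] (h : SylIn p V A)
    (hV : V ≤ B) (hc : ∀ a ∈ A, (orderOf a).Coprime p → a ∈ B) : A ≤ B := by
  intro α hα
  have h1 := H2.Residual.sylow_sup_residual h.toSylow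
  have h3 : (⟨α, hα⟩ : A) ∈ (⊤ : Subgroup A) := Subgroup.mem_top _
  rw [← h1] at h3
  have h4 : (h.toSylow : Subgroup A) ⊔ pResidual p A ≤ B.subgroupOf A := by
    apply sup_le
    · rw [SylIn.coe_toSylow]
      intro x hx
      exact hV hx
    · rw [pResidual, Subgroup.closure_le]
      intro x hx
      refine hc x x.2 ?_
      rw [Subgroup.orderOf_coe]
      exact hx
  exact h4 h3

variable {Ω : Type*} [Group Ω] {S T : Subgroup Ω} {F : FusionSystem S} {E D : FusionSystem T}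
  {P Q R M U X : Subgroup Ω} {f g h a b ρ χ : Ω → Ω} {p : ℕ}

/-- `f` on `P` extends to `P X` acting trivially on `X`. -/
def WX (F : FusionSystem S) (X P : Subgroup Ω) (f : Ω → Ω) : Prop :=
  ∃ g, IsMap F (P ⊔ X) g ∧ (∀ x ∈ P, g x = f x) ∧ ∀ x ∈ X, g x = x

theorem WX.congr (h : WX F X P f) (e : ∀ x ∈ P, f x = g x) : WX F X P g := by
  obtain ⟨k, hk, k1, k2⟩ := h
  exact ⟨k, hk, fun x hx => by rw [k1 x hx, e x hx], k2⟩

theorem WX.mono (h : WX F X P f) (hQ : Q ≤ P) : WX F X Q f := by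
  obtain ⟨k, hk, k1, k2⟩ := h
  exact ⟨k, hk.mono (sup_le_sup_right hQ _), fun x hx => k1 x (hQ hx), k2⟩

theorem WX.comp (h1 : WX F X P f) (h2 : WX F X Q g) (hf : ∀ x ∈ P, f x ∈ Q) : WX F X P (g ∘ f) := by
  obtain ⟨k, hk, k1, k2⟩ := h1
  obtain ⟨l, hl, l1, l2⟩ := h2
  refine ⟨l ∘ k, hk.comp hl (mem_of_sup hk (fun x hx => ?_) fun x hx => ?_), fun x hx => ?_, fun x hx => ?_⟩
  · rw [k1 x hx]; exact Subgroup.mem_sup_left (hf x hx)
  · rw [k2 x hx]; exact Subgroup.mem_sup_right hx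
  · show l (k x) = _
    rw [k1 x hx, l1 _ (hf x hx)]; rfl
  · show l (k x) = _
    rw [k2 x hx, l2 x hx]

theorem WX.symm (h1 : WX F X P f) (hg : ∀ x ∈ P, g (f x) = x) (hQ : ∀ y ∈ Q, ∃ x ∈ P, f x = y) : WX F X Q g := by
  obtain ⟨k, hk, k1, k2⟩ := h1
  obtain ⟨l, hl, l1, l2⟩ := hk.isIso.symm
  have hle : Q ⊔ X ≤ img (P ⊔ X) k := by
    refine sup_le (fun y hy => ?_) fun x hx => ?_
    · obtain ⟨x, hx, rfl⟩ := hQ y hy
      rw [← k1 x hx]
      exact apply_mem_img (Subgroup.mem_sup_left hx)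
    · have h3 : k x ∈ img (P ⊔ X) k := apply_mem_img (Subgroup.mem_sup_right hx)
      rwa [k2 x hx] at h3
  refine ⟨l, hl.isMap.mono hle, fun y hy => ?_, fun x hx => ?_⟩
  · obtain ⟨x, hx, rfl⟩ := hQ y hy
    rw [hg x hx, ← k1 x hx, l1 x (Subgroup.mem_sup_left hx)]
  · have := l1 x (Subgroup.mem_sup_right hx)
    rwa [k2 x hx] at this

/-- automorphisms with the `WX` property -/
def WA (F : FusionSystem S) (X Q : Subgroup Ω) (hQX : Q ⊔ X ≤ S) : Subgroup (MulAut Q) where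
  carrier := {α | WX F X Q (fn α)}
  mul_mem' := by
    intro α β h1 h2
    exact (WX.comp h2 h1 fun x hx => fn_mem β hx).congr fun x hx => (fn_mul α β hx).symm
  one_mem' := ⟨fun x => x, isMap_id F hQX, fun x hx => (fn_one hx).symm, fun _ _ => rfl⟩
  inv_mem' := by
    intro α h1
    exact h1.symm (fun x hx => fn_inv_apply α hx) fun y hy => ⟨fn α⁻¹ y, fn_mem _ hy, fn_apply_inv α hy⟩

theorem mem_WA {hQX : Q ⊔ X ≤ S} {α : MulAut Q} : α ∈ WA F X Q hQX ↔ WX F X Q (fn α) := Iff.rfl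

/-- automorphisms with the `NEx` property -/
def NA [Finite S] (F : FusionSystem S) (Q : Subgroup Ω) (hQS : Q ≤ S) : Subgroup (MulAut Q) where
  carrier := {α | α ∈ F.autGroup Q ∧ NEx F Q (fn α)}
  mul_mem' := by
    rintro α β ⟨h1, h2⟩ ⟨h3, h4⟩
    exact ⟨Subgroup.mul_mem _ h1 h3,
      (NEx.comp (fn_iso hQS h3) (fn_iso hQS h1) h4 h2).congr fun x hx => (fn_mul α β hx).symm⟩
  one_mem' := ⟨Subgroup.one_mem _, fun x => x, isMap_id F (sup_cent_le hQS), fun x hx => (fn_one hx).symm, fun c _ => by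
    rw [inv_mul_cancel]; exact Q.one_mem⟩
  inv_mem' := by
    rintro α ⟨h1, h2⟩
    have h1' := Subgroup.inv_mem _ h1
    exact ⟨h1', NEx.symm (fn_iso hQS h1) (fn_iso hQS h1') (fun y hy => fn_apply_inv α hy) h2⟩

/-- a `p'`-automorphism with `NEx` extends to a `Cp` automorphism -/
theorem exists_cp [Fact p.Prime] [Finite S] (hQS : Q ≤ S) {γ : MulAut Q} (hγ : γ ∈ F.autGroup Q)
    (ho : (orderOf γ).Coprime p) (h : NEx F Q (fn γ)) :
    ∃ β : MulAut ↥(Q ⊔ centralizerIn S Q), Cp F p Q β ∧ ∀ x ∈ Q, fn β x = fn γ x := by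
  have hUS := sup_cent_le (S := S) hQS
  have hUfin : Finite ↥(Q ⊔ centralizerIn S Q) := finite_of_le hUS
  obtain ⟨k, hk, k1, k2⟩ := h
  have hγi := fn_iso hQS hγ
  have hkQ : IsIso F Q Q k := hγi.congr fun x hx => (k1 x hx).symm
  have hm : ∀ x ∈ Q ⊔ centralizerIn S Q, k x ∈ Q ⊔ centralizerIn S Q := by
    refine mem_of_sup hk (fun x hx => Subgroup.mem_sup_left (hkQ.mem hx)) fun c hc => ?_
    exact Subgroup.mem_sup_right (map_centralizer hk le_sup_left hkQ (Subgroup.mem_sup_right hc) hc)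
  have hki := H87.ConstrEq.isIso_of_self hk hm
  obtain ⟨m, hm1, hm2⟩ := exists_coprime_power (Q := Q) (P := Q ⊔ centralizerIn S Q) (α := hki.aut) (β := γ) le_sup_left
    (fun x hx => by rw [hki.aut_apply, k1 x hx, fn_apply γ hx]) ho
  have hpow : ∀ j : ℕ, ∀ c ∈ centralizerIn S Q, c⁻¹ * fn (hki.aut ^ j) c ∈ Q ∧ fn (hki.aut ^ j) c ∈ centralizerIn S Q := by
    intro j
    induction j with
    | zero =>
      intro c hc
      rw [pow_zero, fn_one (Subgroup.mem_sup_right hc), inv_mul_cancel]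
      exact ⟨Q.one_mem, hc⟩
    | succ j ih =>
      intro c hc
      obtain ⟨h1, h2⟩ := ih c hc
      rw [fn_pow_succ _ j (Subgroup.mem_sup_right hc), fn_aut hki (Subgroup.mem_sup_right h2)]
      refine ⟨?_, map_centralizer hk le_sup_left hkQ (Subgroup.mem_sup_right h2) h2⟩
      have h3 := k2 _ h2
      have : c⁻¹ * k (fn (hki.aut ^ j) c) = (c⁻¹ * fn (hki.aut ^ j) c) * ((fn (hki.aut ^ j) c)⁻¹ * k (fn (hki.aut ^ j) c)) := by
        group
      rw [this]
      exact Q.mul_mem h1 h3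
  have he : ∀ x ∈ Q, fn (hki.aut ^ m) x = fn γ x := fun x hx => by
    rw [fn_apply _ (Subgroup.mem_sup_left hx), fn_apply γ hx]; exact (hm2 x hx).symm
  exact ⟨hki.aut ^ m, ⟨Subgroup.pow_mem _ hki.aut_mem m, hm1, fun x hx => by rw [he x hx]; exact fn_mem γ hx,
    fun c hc => (hpow m c hc).1⟩, he⟩

/-- a `p'`-automorphism in `E` having `NEx` at a fully normalized conjugate extends to fix `C_S(E)`. -/
theorem wx_of_nex [Fact p.Prime] [Finite S] (hT : F.StronglyClosed T) (hP : TC F T P)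
    (hEF : E.IsSubsystemOf F)
    (hχ : IsMap F (P ⊔ centralizerIn S T) χ) (hi : IsIso F P Q χ) (hQ : F.IsFullyNormalized Q) {γ : MulAut Q}
    (hγ : γ ∈ E.autGroup Q) (ho : (orderOf γ).Coprime p) (hn : NEx F Q (fn γ)) (hfP : ∀ x ∈ P, f x ∈ P)
    (e : ∀ x ∈ P, fn γ (χ x) = χ (f x)) : WX F (CS F E p) P f := by
  have hTS := hT.1
  have hPS := hP.1.trans hTS
  have hQT : Q ≤ T := conj_le_of_stronglyClosed hT hi.isConj hP.1
  have hQS := hQT.trans hTS
  have hUS := sup_cent_le (S := S) hQS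
  obtain ⟨β, hβ, eβ⟩ := exists_cp hQS (autGroup_mono hEF Q hγ) ho hn
  have hd : Dat F E p P Q χ β := ⟨hP, hχ, hi, hQ, hβ, γ, hγ, eβ⟩
  have hfix : ∀ x ∈ CS F E p, fn β (χ x) = χ x := fun x hx => hx.2 _ _ _ _ hd
  have hPC : P ⊔ CS F E p ≤ P ⊔ centralizerIn S T := sup_le_sup_left CS_le _
  have hχ' : IsMap F (P ⊔ CS F E p) χ := hχ.mono hPC
  obtain ⟨l, hl, l1, l2⟩ := hχ'.isIso.symm
  have hm1 : ∀ x ∈ P ⊔ CS F E p, χ x ∈ Q ⊔ centralizerIn S Q := by
    refine mem_of_sup hχ' (fun x hx => Subgroup.mem_sup_left (hi.mem hx)) fun x hx => ?_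
    exact Subgroup.mem_sup_right (hd.rho_mem (CS_le hx))
  have h1 : IsMap F (P ⊔ CS F E p) (fn β ∘ χ) := hχ'.comp (fn_iso hUS hβ.mem).isMap hm1
  have hvP : ∀ x ∈ P, (fn β ∘ χ) x = χ (f x) := fun x hx => by
    show fn β (χ x) = _
    rw [eβ _ (hi.mem hx), e x hx]
  have hm2 : ∀ x ∈ P ⊔ CS F E p, (fn β ∘ χ) x ∈ img (P ⊔ CS F E p) χ := by
    refine mem_of_sup h1 (fun x hx => ?_) fun x hx => ?_
    · rw [hvP x hx]; exact apply_mem_img (Subgroup.mem_sup_left (hfP x hx))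
    · show fn β (χ x) ∈ _
      rw [hfix x hx]; exact apply_mem_img (Subgroup.mem_sup_right hx)
  refine ⟨l ∘ (fn β ∘ χ), h1.comp hl.isMap hm2, fun x hx => ?_, fun x hx => ?_⟩
  · show l ((fn β ∘ χ) x) = _
    rw [hvP x hx, l1 _ (Subgroup.mem_sup_left (hfP x hx))]
  · show l (fn β (χ x)) = _
    rw [hfix x hx, l1 _ (Subgroup.mem_sup_right hx)]

/-- `opp` is preserved under conjugation. -/
theorem opp_congr [Fact p.Prime] [Finite S] (hI : SInv F E) (hT : F.StronglyClosed T) (hP : P ≤ T) (hi : IsIso F P Q χ)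
    {γ : MulAut P} (hγ : γ ∈ opp E p P) : IsIso.congrAut hi γ ∈ opp E p Q := by
  have hQT : Q ≤ T := conj_le_of_stronglyClosed hT hi.isConj hP
  refine (show opp E p P ≤ (opp E p Q).comap (IsIso.congrAut hi).toMonoidHom from ?_) hγ
  refine (Subgroup.closure_le _).2 ?_
  rintro α ⟨hα, k, hk⟩
  refine Subgroup.subset_closure ⟨?_, k, ?_⟩
  · have hαi : IsIso E P P (fn α) := fn_iso hP hα
    obtain ⟨g, hg, hg'⟩ := hI P P _ χ le_rfl hP hαi.isMap (fun _ hx => hαi.mem hx) hi.isMap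
    rw [hi.eq_img] at hg
    refine mem_autGroup_of_isMap hQT hg fun y => ?_
    obtain ⟨x, hx, e⟩ := hi.surj y.2
    rw [← fn_coe, ← e]
    show fn (IsIso.congrAut hi α) (χ x) = _
    rw [fn_congrAut hi α hx]
    exact (hg' x hx).symm
  · rw [← hk]; exact (IsIso.congrAut hi).orderOf_eq α

theorem opp_nex [Fact p.Prime] [Finite S] (hS : IsPGroup p S) (hE : E.IsWeaklyNormalIn F p)
    (hP : TC F T P) {γ : MulAut P} (hγ : γ ∈ opp E p P) : NEx F P (fn γ) := by
  have hTS := hE.2.2.2.1.1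
  have h : opp E p P ≤ NA F P (hP.1.trans hTS) := by
    refine (Subgroup.closure_le _).2 ?_
    rintro α ⟨hα, hk⟩
    exact ⟨autGroup_mono hE.2.2.1 P hα, nex_of_pElement hS hE hP hα hk⟩
  exact (h hγ).2

/-- `E ≤ C_F(C_S(E))` -/
theorem wx_all [Fact p.Prime] [Finite S] (hS : IsPGroup p S) (hE : E.IsNormalIn F p) :
    ∀ P f, P ≤ T → IsMap E P f → WX F (CS F E p) P f := by
  have hw : E.IsWeaklyNormalIn F p := hE.1
  have hEs := hw.1
  have hF := hw.2.1
  have hinv := hw.2.2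
  have hEF := hinv.1
  have hT := hinv.2.1
  have hTS := hT.1
  have hI := sinv_of_invariant hinv
  have hTfin : Finite T := finite_of_le hTS
  have hTp : IsPGroup p T := hS.to_le hTS
  have hCS : CS F E p ≤ S := CS_le.trans inf_le_left
  have hconjW : ∀ P, P ≤ T → ∀ t ∈ T, WX F (CS F E p) P (fun x => t * x * t⁻¹) := by
    intro P hP t ht
    refine ⟨_, isMap_conj F (sup_le (hP.trans hTS) hCS) (hTS ht), fun _ _ => rfl, fun x hx => ?_⟩
    have := (mem_centralizerIn.1 (CS_le hx)).2 t ht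
    show t * x * t⁻¹ = x
    rw [this]; group
  refine alp hTp hEs stronglyClosed_top (WX F (CS F E p)) (fun P f g _ _ e h => h.congr e)
    (fun P Q f _ _ h1 h => h.mono h1) (fun P Q f g _ h1 _ h3 h4 => h3.comp h4 fun x hx => h1.mem hx)
    (fun P Q f g _ h1 _ h2 _ h4 => h4.symm h2 fun y hy => h1.surj hy) ?_ ?_
  · -- `T`
    intro f hf
    have hfinA : Finite (MulAut T) := finite_mulAut
    have hfinA' : Finite ↥(E.autGroup T) := inferInstance
    have hle : E.autGroup T ≤ WA F (CS F E p) T (sup_le hTS hCS) := by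
      have hn := H87.Bridge.nice_of_fn hTp hEs (H86.FusSat.fullyNormalized_self E)
      refine gen_of_syl (isFullyAutomized_iff.1 hn.1).2 ?_ ?_
      · intro α hα
        obtain ⟨t, ht, e⟩ := fn_autInduced hα
        exact mem_WA.2 ((hconjW T le_rfl t ht).congr fun x hx => (e x hx).symm)
      · intro γ hγ ho
        obtain ⟨b, hb, b1, b2⟩ := (isNormalIn_iff.1 hE).2.2.2 _ (fn_iso le_rfl hγ)
        have hfn : F.IsFullyNormalized T := fn_of_stronglyClosed hT
        have hTT : TC F T T := by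
          refine ⟨le_rfl, fun Q f hf => ?_⟩
          have : Q = T := by rw [← hf.eq_img]; exact (StronglyClosed.isMap_iso hT hf.isMap le_rfl).eq_img
          rw [this]; exact inf_le_left
        refine wx_of_nex (χ := fun x => x) hT hTT hEF (isMap_id F (sup_le hTS inf_le_left)) (isIso_id F hTS) hfn hγ ho
          ⟨b, hb.isMap, b1, fun c hc => (b2 c hc).1⟩ (fun x hx => fn_mem γ hx) fun _ _ => rfl
    have h1 := hle hf.aut_mem
    exact (mem_WA.1 h1).congr fun x hx => fn_aut hf hx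
  · intro Q hQT hQne hQ hIH f hf
    have hQS := hQT.trans hTS
    have hQlt : Q < T := lt_of_le_of_ne hQT hQne
    have hQfin : Finite Q := finite_of_le hQS
    by_cases hc : E.IsCentric Q
    · have hQt : TC F T Q := tc_of_centric hinv hc
      have hfinA : Finite (MulAut Q) := finite_mulAut
      have hfinO : Finite ↥(opp E p Q) := inferInstance
      have hsyl := (isFullyAutomized_iff.1 hQ.1).2
      have hV : autInducedBy T Q ≤ opp E p Q := by
        intro α hα
        exact Subgroup.subset_closure ⟨hsyl.le hα, orderOf_pow_of_isPGroup hsyl.isP hα⟩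
      have hQX : Q ⊔ CS F E p ≤ S := sup_le hQS hCS
      have hO : opp E p Q ≤ WA F (CS F E p) Q hQX := by
        refine gen_of_syl (hsyl.of_le hV opp_le) ?_ ?_
        · intro α hα
          obtain ⟨t, ht, e⟩ := fn_autInduced hα
          exact mem_WA.2 ((hconjW Q hQT t ht).congr fun x hx => (e x hx).symm)
        · intro γ hγ ho
          obtain ⟨Q', hQQ', hQ'⟩ := exists_nice hF hQS
          obtain ⟨χ, hχN, hχ⟩ := hQ'.exists_map_normalizer hS hQQ'
          have hQ'T : TC F T Q' := hQt.conj hT hχ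
          have h1 := opp_congr (p := p) hI hT hQT hχ hγ
          have h2 := opp_nex hS hw hQ'T h1
          have h3 : (orderOf (IsIso.congrAut hχ γ)).Coprime p := by
            have : orderOf (IsIso.congrAut hχ γ) = orderOf γ := (IsIso.congrAut hχ).orderOf_eq γ
            rw [this]; exact ho
          refine wx_of_nex (χ := χ) hT hQt hEF (hχN.mono (sup_le (le_normalizerIn hQS)
            ((centT_le hQT).trans centralizerIn_le_normalizerIn))) hχ (H87.Bridge.fn_of_nice hS hQ') (opp_le h1) h3 h2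
            (fun x hx => fn_mem γ hx) fun x hx => fn_congrAut hχ γ hx
      obtain ⟨k, hk, hkD⟩ := hQ.frattini opp_le opp_normal hf.aut_mem
      obtain ⟨g, hg, eg⟩ := hkD (normalizerIn T Q) normalizerIn_le fun d hd => by
        obtain ⟨c, hc, e⟩ := exists_induced hd
        exact ⟨c, hV hc, e⟩
      have hlt := lt_normalizerIn hTp hQlt
      have hle : Q ⊔ normalizerIn T Q ≤ T := sup_le hQT normalizerIn_le
      have h1 := hIH (Q ⊔ normalizerIn T Q) g hle (card_lt' hle (lt_of_lt_of_le hlt le_sup_right)) hg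
      have h2 : k * hf.aut ∈ WA F (CS F E p) Q hQX :=
        mem_WA.2 ((h1.mono le_sup_left).congr fun x hx => by rw [eg x hx, fn_apply _ hx])
      have h3 : hf.aut ∈ WA F (CS F E p) Q hQX := by
        have := Subgroup.mul_mem _ (Subgroup.inv_mem _ (hO hk)) h2
        rwa [inv_mul_cancel_left] at this
      exact (mem_WA.1 h3).congr fun x hx => fn_aut hf hx
    · obtain ⟨c, hc1, hc2⟩ := exists_centralizer hTp hQ hc
      obtain ⟨g, hg, eg⟩ := receptive_ext_centralizer hQ.2 hf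
      have hle : Q ⊔ centralizerIn T Q ≤ T := sup_le hQT inf_le_left
      have hlt : Q < Q ⊔ centralizerIn T Q := lt_of_le_of_ne le_sup_left fun h => hc2 (by
        rw [h]; exact Subgroup.mem_sup_right hc1)
      have h1 := hIH _ g hle (card_lt' hle hlt) hg
      exact (h1.mono le_sup_left).congr eg

end H90.CSE3
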