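import Cfsg.Agent.Lib.H90.GA5
set_option autoImplicit false

/-! T-GW4, gamma structure, part 6: `U / F` is cyclic, structure of `U` -/

open Subgroup H4.GW H90.GA1 H90.GA2 H90.GA3 H90.GA4 H90.GA5
open scoped commutatorElement

namespace H90.GA6

variable {G : Type*} [Group G] [Finite G] {p : ℕ} [hp : Fact p.Prime]

section

variable {U E Om : Subgroup G} {s x y z : G} (S : GS p U E s) (O : OmD p U E Om s x y z)

/-- the matrix of `u` -/
noncomputable def M2 (p : ℕ) (x y z u : G) : Matrix (Fin 2) (Fin 2) (ZMod p) :=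
  !![(co p x y z (u * x * u⁻¹)).1, (co p x y z (u * y * u⁻¹)).1; (co p x y z (u * x * u⁻¹)).2, (co p x y z (u * y * u⁻¹)).2]

include S O

noncomputable def R0 : U →* Matrix (Fin 2) (Fin 2) (ZMod p) where
  toFun u := M2 p x y z u
  map_one' := by
    unfold M2
    rw [OneMemClass.coe_one, one_mul, inv_one, mul_one, one_mul, mul_one, co_x S O, co_y S O]
    ext i j; fin_cases i <;> fin_cases j <;> simp
  map_mul' := by
    intro u v
    have hx := co_conj S O u.2 (conjU S O v.2 O.xm)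
    have hy := co_conj S O u.2 (conjU S O v.2 O.ym)
    have ex : (u * v : G) * x * (u * v : G)⁻¹ = u * (v * x * (v : G)⁻¹) * (u : G)⁻¹ := by group
    have ey : (u * v : G) * y * (u * v : G)⁻¹ = u * (v * y * (v : G)⁻¹) * (u : G)⁻¹ := by group
    unfold M2
    rw [Subgroup.coe_mul, ex, ey, hx, hy, Matrix.mul_fin_two]

noncomputable def R : U →* GL (Fin 2) (ZMod p) := (R0 S O).toHomUnits

theorem R_val (u : U) : ((R S O u : GL (Fin 2) (ZMod p)) : Matrix (Fin 2) (Fin 2) (ZMod p)) = M2 p x y z u := rfl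

theorem R00 (u : U) : (R S O u : GL (Fin 2) (ZMod p)) 0 0 = (co p x y z (u * x * (u : G)⁻¹)).1 := rfl
theorem R01 (u : U) : (R S O u : GL (Fin 2) (ZMod p)) 0 1 = (co p x y z (u * y * (u : G)⁻¹)).1 := rfl
theorem R10 (u : U) : (R S O u : GL (Fin 2) (ZMod p)) 1 0 = (co p x y z (u * x * (u : G)⁻¹)).2 := rfl
theorem R11 (u : U) : (R S O u : GL (Fin 2) (ZMod p)) 1 1 = (co p x y z (u * y * (u : G)⁻¹)).2 := rfl

theorem R_det (u : U) : (R S O u : GL (Fin 2) (ZMod p)) 0 0 * (R S O u : GL (Fin 2) (ZMod p)) 1 1 -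
    (R S O u : GL (Fin 2) (ZMod p)) 0 1 * (R S O u : GL (Fin 2) (ZMod p)) 1 0 = 1 := by
  rw [R00, R01, R10, R11]
  obtain ⟨n, h1, h2⟩ := comm_form S O (conjU S O u.2 O.xm) (conjU S O u.2 O.ym)
  have h3 : (u * x * (u : G)⁻¹) * (u * y * (u : G)⁻¹) = z ^ (1 : ℤ) * ((u * y * (u : G)⁻¹) * (u * x * (u : G)⁻¹)) := by
    have h4 := zcU S O u.2 1
    calc (u * x * (u : G)⁻¹) * (u * y * (u : G)⁻¹) = u * (x * y) * (u : G)⁻¹ := by group
      _ = u * (z * (y * x)) * (u : G)⁻¹ := by rw [O.cz]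
      _ = (u * z ^ (1 : ℤ)) * (y * x) * (u : G)⁻¹ := by rw [zpow_one]; group
      _ = z ^ (1 : ℤ) * ((u * y * (u : G)⁻¹) * (u * x * (u : G)⁻¹)) := by rw [h4]; group
  rw [h3] at h1
  have h5 : z ^ (1 : ℤ) = z ^ n := mul_right_cancel h1
  rw [zpow_z_iff O] at h5
  rw [h2] at h5
  push_cast at h5
  linear_combination -h5

theorem co_s {m : G} (hm : m ∈ Om) : co p x y z (s * m * s⁻¹) = ((co p x y z m).1, -(co p x y z m).2) := by
  obtain ⟨i, j, l, rfl⟩ := O.gen m hm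
  have h1 : s * (x ^ i * y ^ j * z ^ l) * s⁻¹ = x ^ i * y ^ (-j) * z ^ (-l) := by
    have e1 : s * x ^ i * s⁻¹ = x ^ i := by
      rw [mul_inv_eq_iff_eq_mul]; exact ((show Commute s x from O.xs).zpow_right i).eq
    have e2 : s * y ^ j * s⁻¹ = y ^ (-j) := by rw [O.yi.zpow j, zpow_neg]
    have e3 : s * z ^ l * s⁻¹ = z ^ (-l) := by
      rw [(Z_inv S z O.zZ).zpow l, zpow_neg]
    calc s * (x ^ i * y ^ j * z ^ l) * s⁻¹ = (s * x ^ i * s⁻¹) * (s * y ^ j * s⁻¹) * (s * z ^ l * s⁻¹) := by group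
      _ = _ := by rw [e1, e2, e3]
  rw [h1, co_eq S O, co_eq S O]
  push_cast
  rfl

theorem sU' {u : G} (hu : u ∈ U) : s * u * s⁻¹ ∈ U := (mem_normalizer_iff.1 S.sU u).1 hu

theorem R_s (u : U) : R S O ⟨s * u * s⁻¹, sU' S O u.2⟩ = sg (ZMod p) * R S O u * (sg (ZMod p))⁻¹ := by
  apply Units.ext
  rw [conj_apply]
  have hsx : s⁻¹ * x * s = x := by
    rw [mul_assoc, ← O.xs]; group
  have hsy : s⁻¹ * y * s = y⁻¹ := by
    have h1 : s * y * s⁻¹ = y⁻¹ := O.yi
    rw [sinv S.sq] at h1 ⊢; exact h1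
  have ex : (s * u * s⁻¹) * x * (s * u * s⁻¹)⁻¹ = s * (u * x * (u : G)⁻¹) * s⁻¹ := by
    calc (s * u * s⁻¹) * x * (s * u * s⁻¹)⁻¹ = s * (u * (s⁻¹ * x * s) * (u : G)⁻¹) * s⁻¹ := by group
      _ = _ := by rw [hsx]
  have ey : (s * u * s⁻¹) * y * (s * u * s⁻¹)⁻¹ = s * (u * y * (u : G)⁻¹)⁻¹ * s⁻¹ := by
    calc (s * u * s⁻¹) * y * (s * u * s⁻¹)⁻¹ = s * (u * (s⁻¹ * y * s) * (u : G)⁻¹) * s⁻¹ := by group
      _ = _ := by rw [hsy]; group
  have hx := conjU S O u.2 O.xm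
  have hy := conjU S O u.2 O.ym
  rw [R_val, R00, R01, R10, R11]
  unfold M2
  rw [ex, ey, co_s S O hx, co_s S O (Om.inv_mem hy), co_inv S O hy]
  ext i j
  fin_cases i <;> fin_cases j <;> simp

theorem two_ne : (2 : ZMod p) ≠ 0 := by
  intro h
  have h1 : ((2 : ℕ) : ZMod p) = 0 := by exact_mod_cast h
  rw [ZMod.natCast_eq_zero_iff] at h1
  exact S.p2 ((Nat.prime_dvd_prime_iff_eq hp.out Nat.prime_two).1 h1)

/-- the main input of the matrix lemma -/
theorem matrices (hsol : Group.IsSolvable U) :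
    (∀ γ ∈ (R S O).range, γ 0 0 = γ 1 1) ∧ ∃ b c : ZMod p, b ≠ 0 ∧ c ≠ 0 ∧ ∀ γ ∈ (R S O).range, γ 0 1 * c = b * γ 1 0 := by
  have h2 : (2 : ZMod p) ≠ 0 := two_ne S O
  have hdet : ∀ γ ∈ (R S O).range, γ 0 0 * γ 1 1 - γ 0 1 * γ 1 0 = 1 := by
    rintro _ ⟨u, rfl⟩
    exact R_det S O u
  have hodd : Odd (Nat.card (R S O).range) := Odd.of_dvd_nat S.odd (Subgroup.card_range_dvd _)
  have hσ : sg (ZMod p) ∈ normalizer ((R S O).range : Set (GL (Fin 2) (ZMod p))) := by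
    rw [mem_normalizer_iff_conj]
    rintro _ ⟨u, rfl⟩
    exact ⟨_, R_s S O u⟩
  have hinvR : ∀ u : U, H4.GW.Inv s u → H4.GW.Inv (sg (ZMod p)) (R S O u) := by
    intro u hu
    unfold H4.GW.Inv
    rw [← R_s S O u, ← map_inv]
    congr 1
    exact Subtype.ext hu
  refine ML h2 hdet hodd (Group.isSolvable_of_surjective (R S O).rangeRestrict_surjective) hσ ?_ ?_ ?_
  · apply le_antisymm
    · exact H1.Coprime2.commutator_le_left ((zpowers_le).2 hσ)
    · have key : U ≤ (⁅(R S O).range, zpowers (sg (ZMod p))⁆.comap (R S O)).map U.subtype := by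
        apply ind_inv S.sq S.sU S.gen
        intro n hn hi
        refine ⟨⟨n, hn⟩, ?_, rfl⟩
        rw [SetLike.mem_coe, mem_comap]
        exact mem_comm_of_inv ⟨⟨n, hn⟩, rfl⟩ (hinvR ⟨n, hn⟩ hi) (odd_orderOf_of_mem hodd ⟨⟨n, hn⟩, rfl⟩)
      rintro _ ⟨u, rfl⟩
      obtain ⟨v, hv, hvu⟩ := key u.2
      have : v = u := Subtype.ext hvu
      rw [← this]
      exact hv
  · intro hall
    apply O.x1
    apply S.al x (O.le O.xm) O.xs
    intro u hu
    have h3 := hall (R S O ⟨u, hu⟩) ⟨_, rfl⟩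
    rw [R00, R10] at h3
    have h4 : co p x y z (u * x * u⁻¹) = co p x y z x := by
      rw [co_x S O]; exact Prod.ext h3.1 h3.2
    obtain ⟨n, hn⟩ := co_inj S O (conjU S O hu O.xm) O.xm h4
    have h5 : u * x * u⁻¹ * x⁻¹ = z ^ n := by
      rw [hn, zcU S O (OmU S O O.xm)]; group
    rw [h5]
    exact ((Zc E).zpow_mem O.zZ n).2
  · intro hall
    have h6 : U ≤ Ce y := by
      apply ind_inv S.sq S.sU S.gen
      intro n hn hi
      have h3 := hall (R S O ⟨n, hn⟩) ⟨_, rfl⟩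
      rw [R11, R01] at h3
      have h4 : co p x y z (n * y * n⁻¹) = co p x y z y := by
        rw [co_y S O]; exact Prod.ext h3.2 h3.1
      obtain ⟨l, hl⟩ := co_inj S O (conjU S O hn O.ym) O.ym h4
      -- conjugate by s
      have h7 : s * (n * y * n⁻¹) * s⁻¹ = n⁻¹ * y⁻¹ * n := by
        have e1 : s * n * s⁻¹ = n⁻¹ := hi
        have e2 : s * y * s⁻¹ = y⁻¹ := O.yi
        calc s * (n * y * n⁻¹) * s⁻¹ = (s * n * s⁻¹) * (s * y * s⁻¹) * (s * n * s⁻¹)⁻¹ := by group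
          _ = n⁻¹ * y⁻¹ * n := by rw [e1, e2, inv_inv]
      have h8 : s * (y * z ^ l) * s⁻¹ = y⁻¹ * (z ^ l)⁻¹ := by
        have e2 : s * y * s⁻¹ = y⁻¹ := O.yi
        have e3 : s * z ^ l * s⁻¹ = (z ^ l)⁻¹ := (Z_inv S z O.zZ).zpow l
        calc s * (y * z ^ l) * s⁻¹ = (s * y * s⁻¹) * (s * z ^ l * s⁻¹) := by group
          _ = _ := by rw [e2, e3]
      rw [hl, h8] at h7
      -- n⁻¹ y n = z^l y
      have h9 : n⁻¹ * y * n = z ^ l * y := by
        have := congrArg (fun g => g⁻¹) h7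
        simp only [mul_inv_rev, inv_inv] at this
        rw [this]; group
      have h10 : y = z ^ l * (y * z ^ l) := by
        have e4 := zcU S O hn l
        calc y = n * (n⁻¹ * y * n) * n⁻¹ := by group
          _ = n * (z ^ l * y) * n⁻¹ := by rw [h9]
          _ = (n * z ^ l) * y * n⁻¹ := by group
          _ = z ^ l * (n * y * n⁻¹) := by rw [e4]; group
          _ = z ^ l * (y * z ^ l) := by rw [hl]
      rw [zcU S O (OmU S O O.ym), ← mul_assoc] at h10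
      have h11 : z ^ l * z ^ l = 1 := by
        have : 1 * y = z ^ l * z ^ l * y := by rw [one_mul]; exact h10
        exact (mul_right_cancel this).symm
      have h12 : z ^ l = 1 := (mem_bot).1 (mem_of_sq (K := ⊥) (odd_orderOf_of_mem S.odd (OmU S O (Om.zpow_mem O.zm l)))
        (by rw [h11]; exact one_mem _))
      rw [h12, mul_one] at hl
      rw [mem_Ce]
      rw [mul_inv_eq_iff_eq_mul] at hl
      exact hl.symm
    have h7 := mem_Ce.1 (h6 (OmU S O O.xm))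
    apply O.z1
    have h8 := O.cz
    rw [h7] at h8
    have h9 : 1 * (x * y) = z * (x * y) := by rw [one_mul]; exact h8
    exact (mul_right_cancel h9).symm

end

end H90.GA6
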