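import Cfsg.Agent.Lib.H90.GA6
set_option autoImplicit false

/-! T-GW4, gamma structure, part 7: order, exponent and centre of `Om`; fixed points of `s` -/

open Subgroup H4.GW H90.GA1 H90.GA2 H90.GA3 H90.GA4 H90.GA5
open scoped commutatorElement

namespace H90.GA7

variable {G : Type*} [Group G] [Finite G] {p : ℕ} [hp : Fact p.Prime]

section

variable {U E Om : Subgroup G} {s x y z : G} (S : GS p U E s) (O : OmD p U E Om s x y z)

include S O

/-- the coordinate homomorphism -/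
noncomputable def coh : Om →* Multiplicative (ZMod p × ZMod p) where
  toFun m := Multiplicative.ofAdd (co p x y z m)
  map_one' := by
    show Multiplicative.ofAdd (co p x y z (1 : G)) = 1
    rw [co_one S O]; rfl
  map_mul' a b := by
    show Multiplicative.ofAdd (co p x y z ((a : G) * b)) = _
    rw [co_mul S O a.2 b.2]; rfl

theorem coh_surj : Function.Surjective (coh S O) := by
  intro v
  obtain ⟨i, hi⟩ := ZMod.intCast_surjective (Multiplicative.toAdd v).1
  obtain ⟨j, hj⟩ := ZMod.intCast_surjective (Multiplicative.toAdd v).2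
  refine ⟨⟨x ^ i * y ^ j * z ^ (0 : ℤ), mem_Om S O i j 0⟩, ?_⟩
  show Multiplicative.ofAdd (co p x y z (x ^ i * y ^ j * z ^ (0 : ℤ))) = v
  rw [co_eq S O, hi, hj]
  rfl

theorem coh_ker : (coh S O).ker = (zpowers z).subgroupOf Om := by
  ext m
  rw [MonoidHom.mem_ker, mem_subgroupOf]
  constructor
  · intro h
    have h' : Multiplicative.ofAdd (co p x y z (m : G)) = 1 := h
    exact co_ker S O m.2 (Multiplicative.ofAdd.injective h')
  · intro h
    obtain ⟨n, hn⟩ := mem_zpowers_iff.1 h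
    show Multiplicative.ofAdd (co p x y z (m : G)) = 1
    rw [← hn, co_zp S O]
    rfl

theorem card_Om : Nat.card Om = p ^ 3 := by
  have h1 := Subgroup.card_mul_index (coh S O).ker
  rw [Subgroup.index_ker, MonoidHom.range_eq_top.2 (coh_surj S O), coh_ker S O, Subgroup.card_top] at h1
  have h2 : Nat.card (Multiplicative (ZMod p × ZMod p)) = p * p := by
    rw [Nat.card_congr Multiplicative.toAdd, Nat.card_prod, Nat.card_zmod]
  have h3 : Nat.card ((zpowers z).subgroupOf Om) = p := by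
    rw [Nat.card_congr (Subgroup.subgroupOfEquivOfLe ((zpowers_le).2 O.zm)).toEquiv, Nat.card_zpowers, ordz O]
  rw [h2, h3] at h1
  rw [← h1]; ring

theorem exp_Om : ∀ m ∈ Om, m ^ p = 1 := by
  intro m hm
  obtain ⟨i, j, l, rfl⟩ := O.gen m hm
  have hpz : ∀ {a : G}, a ^ p = 1 → ∀ i : ℤ, (a ^ i) ^ p = 1 := by
    intro a ha i
    rw [← zpow_natCast, ← zpow_mul, mul_comm, zpow_mul, zpow_natCast, ha, one_zpow]
  have h1 : (x ^ i * y ^ j * z ^ l) ^ p = (x ^ i * y ^ j) ^ p * (z ^ l) ^ p := by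
    apply Commute.mul_pow
    exact zcU S O (OmU S O (Om.mul_mem (Om.zpow_mem O.xm i) (Om.zpow_mem O.ym j))) l
  have h2 : y ^ j * x ^ i = x ^ i * y ^ j * z ^ (-(i * j)) := by
    rw [zcU S O (OmU S O (Om.mul_mem (Om.zpow_mem O.xm i) (Om.zpow_mem O.ym j))), cxy S O i j, ← mul_assoc,
      ← zpow_add]
    simp
  have h3 := mul_pow_central h2 (zcU S O (OmU S O (Om.zpow_mem O.xm i)) _).symm
    (zcU S O (OmU S O (Om.zpow_mem O.ym j)) _).symm p
  have h4 : p ∣ p * (p - 1) / 2 := by
    have hodd : Odd p := hp.out.odd_of_ne_two S.p2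
    obtain ⟨k, hk⟩ := hodd
    have : p * (p - 1) / 2 = p * k := by
      rw [show p - 1 = 2 * k by omega, show p * (2 * k) = p * k * 2 by ring, Nat.mul_div_cancel _ (by norm_num)]
    rw [this]
    exact dvd_mul_right _ _
  obtain ⟨c, hc⟩ := h4
  rw [h1, h3, hpz O.xp, hpz O.yp, hpz O.zp, hc, pow_mul, hpz O.zp]
  simp

theorem not_comm : x * y ≠ y * x := by
  intro h
  apply O.z1
  have := O.cz
  rw [h] at this
  exact (mul_eq_right.1 this.symm)

/-- the centre of `Om` -/
theorem cent_Om {m : G} (hm : m ∈ Om) (h1 : x * m = m * x) (h2 : y * m = m * y) : m ∈ zpowers z := by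
  apply co_ker S O hm
  obtain ⟨n, hn1, hn2⟩ := comm_form S O O.xm hm
  obtain ⟨n', hn1', hn2'⟩ := comm_form S O O.ym hm
  have e1 : z ^ n = z ^ (0 : ℤ) := by
    rw [zpow_zero]
    rw [h1] at hn1
    exact (mul_eq_right.1 hn1.symm)
  have e2 : z ^ n' = z ^ (0 : ℤ) := by
    rw [zpow_zero]
    rw [h2] at hn1'
    exact (mul_eq_right.1 hn1'.symm)
  rw [zpow_z_iff O] at e1 e2
  rw [e1, co_x S O] at hn2
  rw [e2, co_y S O] at hn2'
  ext
  · simpa using hn2'.symm
  · simpa using hn2.symm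

/-- fixed points of `s` on `Om` -/
theorem fix_Om {m : G} (hm : m ∈ Om) (h : s * m * s⁻¹ = m) : m ∈ zpowers x := by
  have h1 := H90.GA6.co_s S O hm
  rw [h] at h1
  have h2 : (co p x y z m).2 = 0 := by
    have h3 := congrArg Prod.snd h1
    simp only at h3
    have h4 : (2 : ZMod p) * (co p x y z m).2 = 0 := by
      linear_combination h3
    rcases mul_eq_zero.1 h4 with h5 | h5
    · exact absurd h5 (H90.GA6.two_ne S O)
    · exact h5
  obtain ⟨i, j, l, rfl⟩ := O.gen m hm
  rw [co_eq S O] at h2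
  have h3 : y ^ j = y ^ (0 : ℤ) := (zpow_y_iff S O).2 (by simpa using h2)
  rw [h3, zpow_zero, mul_one] at h hm ⊢
  have hzi : H4.GW.Inv s z := Z_inv S z O.zZ
  have h4 : s * z ^ l * s⁻¹ = z ^ l := by
    have hsx : s * x ^ i * s⁻¹ = x ^ i := by
      rw [mul_inv_eq_iff_eq_mul]
      exact ((show Commute s x from O.xs).zpow_right i).eq
    have h5 : s * (x ^ i * z ^ l) * s⁻¹ = (s * x ^ i * s⁻¹) * (s * z ^ l * s⁻¹) := by group
    rw [h5, hsx] at h
    exact mul_left_cancel h
  have h5 : z ^ l = 1 := eq_one_of_inv_fix (odd_orderOf_of_mem S.odd (S.EU ((Zc E).zpow_mem O.zZ l).1))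
    (hzi.zpow l) h4
  rw [h5, mul_one]
  exact zpow_mem (mem_zpowers x) i

end

end H90.GA7
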