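import Cfsg.Agent.Lib.H90.GA7
import Cfsg.Agent.Lib.H24.GWD5
import Cfsg.Agent.Lib.H3.GW41
set_option autoImplicit false

/-! T-GW4, gamma structure, part 8: first half of the structure of `U_t` -/

open Subgroup H4.GW H90.GA1 H90.GA2 H90.GA3 H90.GA4 H90.GA5
open scoped commutatorElement

namespace H90.GA8

universe u

variable {G : Type u} [Group G] [Finite G] {p : ℕ} [hp : Fact p.Prime] {V : Subgroup G}

theorem gs (C : CtxD V) (hII : TypeII V p) {t s : G} (ht : t ∈ V) (ht1 : t ≠ 1) (hs : s ∈ V) (hs1 : s ≠ 1)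
    (hst : s ≠ t) : GS p (U t) (E p t) s := by
  have hsC : s ∈ Ce t := mem_Ce.2 (C.comm ht hs)
  have hEU : E p t ≤ U t := H3.GW4.E_le_U hII.ne_two t
  refine ⟨hII.ne_two, C.sq s hs, le_norm_oc _ hsC, odd_oc _, C.star.gen t ht ht1 s hs hs1 hst, hEU,
    (oc_le _).trans (le_norm_op p _), le_norm_op p _ hsC, isPGroup_op p _, ?_, ?_, ?_, ?_⟩
  · intro x hx hxs hx1
    have hxW : x ∈ W V := H24.GWD.mem_W C ht ht1 hs hs1 hst (hEU hx) hxs
    obtain ⟨τ, ε, X⟩ := C.cx p hII t ht ht1 x ⟨hx, hxW⟩ hx1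
    exact (X.tor t ht ht1 s hs hs1 hst).1
  · intro x hx hxs hxc
    exact H24.GWD.hD1 C p hII t ht ht1 x ⟨hx, H24.GWD.mem_W C ht ht1 hs hs1 hst (hEU hx) hxs⟩ hxc
  · intro x hx hxs h
    exact H24.GWD.hAl C p hII t ht ht1 x ⟨hx, H24.GWD.mem_W C ht ht1 hs hs1 hst (hEU hx) hxs⟩ h
  · obtain ⟨⟨x, hx⟩, hx1⟩ := Subgroup.ne_bot_iff_exists_ne_one.1 (hII.ne t ht ht1)
    refine ⟨x, hx.1, ((H24.GWD.mem_W_iff C ht ht1 hs hs1 hst (hEU hx.1)).1 hx.2), fun h => hx1 (Subtype.ext h)⟩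

/-- first half of the (gamma) structure -/
structure Fst (V Om : Subgroup G) (p : ℕ) (t s x y z : G) : Prop where
  gs : GS p (U t) (E p t) s
  om : OmD p (U t) (E p t) Om s x y z
  /-- `Om` is normal in `C(t)` -/
  n : Ce t ≤ normalizer (Om : Set G)
  card : Nat.card Om = p ^ 3
  exp : ∀ m ∈ Om, m ^ p = 1
  ox : orderOf x = p
  oz : orderOf z = p
  /-- the centre of `Om` is `⟨z⟩` -/
  cent : ∀ m ∈ Om, (∀ a ∈ Om, a * m = m * a) → m ∈ zpowers z
  nab : x * y ≠ y * x
  comm : ∀ a ∈ Om, ∀ e ∈ E p t, ⁅e, a⁆ ∈ zpowers z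
  /-- `z` is central in `U_t` -/
  zc : ∀ u ∈ U t, u * z = z * u
  zi : H4.GW.Inv s z
  inf : Om ⊓ W V = zpowers x
  Wx : W V ≤ normalizer (zpowers x : Set G)
  xE : x ∈ E p t ⊓ W V
  zT : z ∈ ⁅U t ⊓ Ce x, zpowers s⁆
  zx : zpowers z ⊓ zpowers x = ⊥

theorem fst (C : CtxD V) (hII : TypeII V p) {t s : G} (ht : t ∈ V) (ht1 : t ≠ 1) (hs : s ∈ V) (hs1 : s ≠ 1)
    (hst : s ≠ t) : ∃ (Om : Subgroup G) (x y z : G), Fst V Om p t s x y z := by
  classical
  have S := gs C hII ht ht1 hs hs1 hst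
  have hZC : Zc (E p t) < E p t := by
    refine lt_of_le_of_ne inf_le_left ?_
    intro h
    obtain ⟨x, hx, hxs, hx1⟩ := S.ex
    have h1 : x ∈ Zc (E p t) := by rw [h]; exact hx
    exact hx1 (S.d1 x hx hxs h1.2)
  obtain ⟨Om, x, y, z, -, O⟩ := exists_Om S le_rfl S.nE S.sE hZC
  have hOU := OmU S O
  have hxW : x ∈ W V := H24.GWD.mem_W C ht ht1 hs hs1 hst (hOU O.xm) O.xs
  have hzi : H4.GW.Inv s z := Z_inv S z O.zZ
  have hinf : Om ⊓ W V = zpowers x := by
    apply le_antisymm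
    · rintro m ⟨hm, hmW⟩
      have h1 := (H24.GWD.mem_W_iff C ht ht1 hs hs1 hst (hOU hm)).1 hmW
      exact H90.GA7.fix_Om S O hm (mul_inv_eq_iff_eq_mul.2 h1)
    · rw [zpowers_le]
      exact ⟨O.xm, hxW⟩
  have hWU : W V ≤ U t := H3.GW4.W_le_U C.toBase C.two ht ht1
  refine ⟨Om, x, y, z, ⟨S, O, ?_, H90.GA7.card_Om S O, H90.GA7.exp_Om S O, ordx O, ordz O, ?_, H90.GA7.not_comm S O,
    O.comm, ?_, hzi, hinf, ?_, ⟨O.le O.xm, hxW⟩, ?_, ?_⟩⟩
  · rw [H3.GW4.Ce_eq C.toBase C.two ht ht1]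
    refine sup_le O.nU ?_
    intro v hv
    rw [mem_normalizer_iff_conj]
    intro a ha
    have h1 : ∀ v ∈ V, v = 1 ∨ v = t ∨ v = s ∨ v = s * t := by
      intro v hv
      obtain ⟨h2, h3⟩ : (Nat.card V = 4) ∧ True := ⟨C.card, trivial⟩
      by_contra hcon
      push Not at hcon
      obtain ⟨c1, c2, c3, c4⟩ := hcon
      have hst1 : s * t ≠ 1 := by
        intro h
        apply hst
        rw [← C.inv ht]
        exact eq_inv_of_mul_eq_one_left h
      have hsub : ({1, t, s, s * t, v} : Finset G) ⊆ (V : Set G).toFinite.toFinset := by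
        intro w hw
        simp only [Finset.mem_insert, Finset.mem_singleton] at hw
        rw [Set.Finite.mem_toFinset]
        rcases hw with rfl | rfl | rfl | rfl | rfl
        · exact V.one_mem
        · exact ht
        · exact hs
        · exact V.mul_mem hs ht
        · exact hv
      have hcard : ({1, t, s, s * t, v} : Finset G).card = 5 := by
        rw [Finset.card_insert_of_notMem, Finset.card_insert_of_notMem, Finset.card_insert_of_notMem,
          Finset.card_insert_of_notMem, Finset.card_singleton]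
        · simpa using fun h => c4 h.symm
        · simp only [Finset.mem_insert, Finset.mem_singleton, not_or]
          exact ⟨fun h => ht1 (left_eq_mul.1 h), fun h => c3 h.symm⟩
        · simp only [Finset.mem_insert, Finset.mem_singleton, not_or]
          exact ⟨fun h => hst h.symm, fun h => hs1 (right_eq_mul.1 h), fun h => c2 h.symm⟩
        · simp only [Finset.mem_insert, Finset.mem_singleton, not_or]
          exact ⟨fun h => ht1 h.symm, fun h => hs1 h.symm, fun h => hst1 h.symm, fun h => c1 h.symm⟩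
      have h4 := Finset.card_le_card hsub
      rw [hcard, ← Set.ncard_eq_toFinset_card, ← Nat.card_coe_set_eq] at h4
      have h5 := C.card
      change Nat.card (V : Set G) = 4 at h5
      omega
    have hta : ∀ a ∈ Om, t * a * t⁻¹ = a := fun a ha => mem_Ce'.1 (oc_le _ (hOU ha))
    have hsa : ∀ a ∈ Om, s * a * s⁻¹ ∈ Om := fun a ha => (mem_normalizer_iff.1 O.ns a).1 ha
    rcases h1 v hv with rfl | rfl | rfl | rfl
    · simpa using ha
    · rw [hta a ha]; exact ha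
    · exact hsa a ha
    · have : s * t * a * (s * t)⁻¹ = s * (t * a * t⁻¹) * s⁻¹ := by group
      rw [this, hta a ha]
      exact hsa a ha
  · intro m hm h
    exact H90.GA7.cent_Om S O hm (h x O.xm) (h y O.ym)
  · intro u hu
    have := zcU S O hu 1
    simpa using this
  · intro w hw
    have hwU := hWU hw
    have hws := (H24.GWD.mem_W_iff C ht ht1 hs hs1 hst hwU).1 hw
    rw [mem_normalizer_iff_conj]
    intro a ha
    have haO : a ∈ Om := (zpowers_le).2 O.xm ha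
    have hsa : s * a * s⁻¹ = a := by
      obtain ⟨n, rfl⟩ := mem_zpowers_iff.1 ha
      rw [mul_inv_eq_iff_eq_mul]
      exact ((show Commute s x from O.xs).zpow_right n).eq
    apply H90.GA7.fix_Om S O (conjU S O hwU haO)
    have h2 : s * w * s⁻¹ = w := mul_inv_eq_iff_eq_mul.2 hws
    calc s * (w * a * w⁻¹) * s⁻¹ = (s * w * s⁻¹) * (s * a * s⁻¹) * (s * w * s⁻¹)⁻¹ := by group
      _ = w * a * w⁻¹ := by rw [h2, hsa]
  · exact mem_cyc S (hOU O.zm) (cxz S O) hzi
  · rw [eq_bot_iff]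
    rintro a ⟨h1, h2⟩
    obtain ⟨n, rfl⟩ := mem_zpowers_iff.1 h1
    obtain ⟨m, hm⟩ := mem_zpowers_iff.1 h2
    have h3 : s * z ^ n * s⁻¹ = z ^ n := by
      rw [← hm, mul_inv_eq_iff_eq_mul]
      exact ((show Commute s x from O.xs).zpow_right m).eq
    rw [mem_bot]
    exact eq_one_of_inv_fix (odd_orderOf_of_mem S.odd (hOU (Om.zpow_mem O.zm n))) (hzi.zpow n) h3

end H90.GA8
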