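import Mathlib.GroupTheory.Perm.Basic
import Mathlib.Data.ZMod.Basic
import Mathlib.Tactic

/-! The free commutative distributive ("Hall triple") system on four generators has 81 points. Certificate: a coset
enumeration without coincidences, checked by the kernel. -/

set_option autoImplicit false

namespace H90.HTS

/-- the words of the 81 points: start generator and the generators applied to it -/
def words : List (ℕ × List ℕ) := [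
(0, []),
  (1, []),
  (2, []),
  (3, []),
  (0, [1]),
  (0, [2]),
  (0, [3]),
  (1, [2]),
  (1, [3]),
  (2, [3]),
  (0, [1, 2]),
  (0, [1, 3]),
  (0, [2, 1]),
  (0, [2, 3]),
  (0, [3, 1]),
  (0, [3, 2]),
  (1, [2, 0]),
  (1, [2, 3]),
  (1, [3, 0]),
  (1, [3, 2]),
  (2, [3, 0]),
  (2, [3, 1]),
  (0, [1, 2, 3]),
  (0, [1, 3, 2]),
  (0, [2, 1, 3]),
  (0, [2, 3, 1]),
  (0, [3, 1, 2]),
  (0, [3, 2, 1]),
  (1, [2, 0, 3]),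
  (1, [2, 3, 0]),
  (1, [3, 0, 2]),
  (1, [3, 2, 0]),
  (2, [3, 0, 1]),
  (2, [3, 1, 0]),
  (0, [1, 2, 3, 0]),
  (0, [1, 2, 3, 1]),
  (0, [1, 2, 3, 2]),
  (0, [1, 3, 2, 0]),
  (0, [1, 3, 2, 1]),
  (0, [2, 1, 3, 0]),
  (0, [2, 1, 3, 1]),
  (0, [2, 1, 3, 2]),
  (0, [2, 3, 1, 0]),
  (0, [2, 3, 1, 2]),
  (0, [3, 1, 2, 0]),
  (0, [3, 1, 2, 1]),
  (0, [3, 1, 2, 3]),
  (0, [3, 2, 1, 0]),
  (0, [3, 2, 1, 3]),
  (1, [2, 0, 3, 1]),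
  (1, [2, 0, 3, 2]),
  (1, [2, 3, 0, 1]),
  (1, [2, 3, 0, 2]),
  (1, [3, 0, 2, 1]),
  (1, [3, 0, 2, 3]),
  (1, [3, 2, 0, 1]),
  (1, [3, 2, 0, 3]),
  (2, [3, 0, 1, 2]),
  (2, [3, 0, 1, 3]),
  (2, [3, 1, 0, 2]),
  (2, [3, 1, 0, 3]),
  (0, [1, 2, 3, 0, 2]),
  (0, [1, 2, 3, 1, 2]),
  (0, [1, 3, 2, 0, 3]),
  (0, [1, 3, 2, 1, 3]),
  (0, [2, 1, 3, 0, 1]),
  (0, [2, 1, 3, 2, 1]),
  (0, [2, 3, 1, 0, 3]),
  (0, [2, 3, 1, 2, 3]),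
  (0, [3, 1, 2, 0, 1]),
  (0, [3, 1, 2, 3, 1]),
  (0, [3, 2, 1, 0, 2]),
  (0, [3, 2, 1, 3, 2]),
  (0, [1, 2, 3, 0, 2, 1]),
  (0, [1, 2, 3, 0, 2, 3]),
  (0, [1, 2, 3, 1, 2, 0]),
  (0, [1, 2, 3, 1, 2, 3]),
  (0, [1, 3, 2, 0, 3, 1]),
  (0, [1, 3, 2, 0, 3, 2]),
  (0, [1, 3, 2, 1, 3, 0]),
  (0, [1, 3, 2, 1, 3, 2])]

/-- the steps: `(0, g, p, n)` defines the point `n` as `g ∘ p`, `(1, p, q, i)` deduces an edge from `p ∘ q = q ∘ p` -/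
def steps : List (ℕ × ℕ × ℕ × ℕ) := [
(0, 1, 0, 4), (1, 0, 1, 0), (0, 2, 0, 5), (1, 0, 2, 0), (0, 3, 0, 6), (1, 0, 3, 0),
  (0, 2, 1, 7), (1, 1, 2, 0), (0, 3, 1, 8), (1, 1, 3, 0), (0, 3, 2, 9), (1, 2, 3, 0),
  (0, 2, 4, 10), (0, 3, 4, 11), (0, 1, 5, 12), (0, 3, 5, 13), (0, 1, 6, 14), (0, 2, 6, 15),
  (0, 0, 7, 16), (1, 0, 7, 1), (1, 1, 10, 0), (1, 1, 16, 1), (0, 3, 7, 17), (0, 0, 8, 18),
  (1, 0, 8, 1), (1, 1, 11, 0), (1, 1, 18, 1), (0, 2, 8, 19), (0, 0, 9, 20), (1, 0, 9, 1),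
  (1, 2, 13, 0), (1, 2, 20, 1), (0, 1, 9, 21), (1, 1, 9, 1), (1, 2, 17, 0), (1, 2, 21, 1),
  (0, 3, 10, 22), (0, 2, 11, 23), (0, 3, 12, 24), (0, 1, 13, 25), (0, 2, 14, 26), (0, 1, 15, 27),
  (0, 3, 16, 28), (0, 0, 17, 29), (0, 2, 18, 30), (0, 0, 19, 31), (0, 1, 20, 32), (0, 0, 21, 33),
  (0, 0, 22, 34), (0, 1, 22, 35), (0, 2, 22, 36), (1, 2, 22, 1), (1, 2, 23, 3), (1, 4, 20, 1),
  (0, 0, 23, 37), (1, 32, 34, 0), (0, 1, 23, 38), (1, 1, 34, 5), (0, 0, 24, 39), (1, 3, 34, 0),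
  (0, 1, 24, 40), (1, 1, 24, 1), (1, 1, 25, 3), (1, 2, 18, 1), (0, 2, 24, 41), (0, 0, 25, 42),
  (1, 15, 42, 0), (0, 2, 25, 43), (1, 2, 39, 5), (0, 0, 26, 44), (1, 0, 24, 3), (0, 1, 26, 45),
  (1, 1, 26, 1), (1, 1, 27, 3), (1, 3, 16, 1), (0, 3, 26, 46), (0, 0, 27, 47), (1, 0, 22, 3),
  (1, 0, 23, 2), (0, 3, 27, 48), (1, 3, 44, 5), (0, 1, 28, 49), (1, 3, 35, 0), (0, 2, 28, 50),
  (1, 2, 28, 1), (0, 1, 29, 51), (1, 0, 45, 2), (0, 2, 29, 52), (1, 2, 24, 2), (0, 1, 30, 53),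
  (1, 1, 28, 3), (0, 3, 30, 54), (1, 2, 46, 0), (0, 1, 31, 55), (1, 0, 40, 2), (1, 0, 51, 0),
  (0, 3, 31, 56), (1, 3, 26, 2), (0, 2, 32, 57), (1, 1, 43, 0), (0, 3, 32, 58), (1, 1, 48, 0),
  (0, 2, 33, 59), (1, 0, 36, 2), (1, 0, 52, 0), (0, 3, 33, 60), (1, 0, 56, 0), (1, 3, 27, 2),
  (0, 2, 34, 61), (1, 0, 57, 0), (0, 2, 35, 62), (1, 1, 59, 0), (0, 3, 37, 63), (1, 0, 58, 0),
  (0, 3, 38, 64), (1, 1, 60, 0), (0, 1, 39, 65), (1, 0, 53, 0), (0, 1, 41, 66), (1, 1, 41, 1),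
  (0, 3, 42, 67), (1, 0, 54, 0), (0, 3, 43, 68), (1, 2, 56, 0), (0, 1, 44, 69), (1, 0, 49, 0),
  (0, 1, 46, 70), (1, 1, 46, 1), (0, 2, 47, 71), (1, 0, 50, 0), (0, 2, 48, 72), (1, 2, 48, 1),
  (0, 1, 61, 73), (1, 1, 61, 1), (1, 5, 55, 1), (0, 3, 61, 74), (1, 0, 74, 0), (1, 2, 67, 0),
  (0, 0, 62, 75), (1, 0, 62, 1), (1, 1, 71, 0), (1, 8, 75, 0), (0, 3, 62, 76), (1, 1, 68, 0),
  (1, 2, 70, 0), (0, 1, 63, 77), (1, 1, 63, 1), (1, 6, 51, 1), (0, 2, 63, 78), (1, 0, 78, 0),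
  (1, 2, 63, 1), (1, 8, 73, 3), (0, 0, 64, 79), (1, 0, 64, 1), (1, 1, 67, 0), (1, 5, 76, 2),
  (0, 2, 64, 80), (1, 1, 72, 0), (1, 1, 74, 7), (1, 2, 64, 1)]

/-- the labels of the points: coordinates modulo 3 -/
def labels : List (ZMod 3 × ZMod 3 × ZMod 3 × ZMod 3) := [
(0, 0, 0, 0), (1, 0, 0, 0), (0, 1, 0, 0), (0, 0, 1, 0), (2, 0, 0, 0), (0, 2, 0, 0),
  (0, 0, 2, 0), (2, 2, 0, 0), (2, 0, 2, 0), (0, 2, 2, 0), (1, 2, 0, 0), (1, 0, 2, 0),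
  (2, 1, 0, 0), (0, 1, 2, 0), (2, 0, 1, 0), (0, 2, 1, 0), (1, 1, 0, 0), (1, 1, 2, 0),
  (1, 0, 1, 0), (1, 2, 1, 0), (0, 1, 1, 0), (2, 1, 1, 0), (2, 1, 2, 0), (2, 2, 1, 0),
  (1, 2, 2, 0), (2, 2, 1, 2), (1, 2, 2, 2), (2, 1, 2, 1), (2, 2, 2, 0), (2, 2, 1, 1),
  (2, 2, 2, 1), (2, 1, 2, 2), (2, 2, 2, 2), (1, 2, 2, 1), (1, 2, 1, 2), (0, 2, 1, 1),
  (1, 1, 1, 0), (1, 1, 2, 1), (0, 1, 2, 2), (2, 1, 1, 1), (1, 1, 1, 1), (2, 0, 1, 2),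
  (1, 1, 2, 2), (1, 0, 2, 1), (2, 1, 1, 2), (1, 1, 1, 2), (2, 1, 0, 1), (1, 2, 1, 1),
  (1, 2, 0, 2), (0, 1, 1, 2), (1, 0, 1, 1), (0, 1, 2, 1), (1, 0, 2, 2), (0, 1, 1, 1),
  (1, 1, 0, 2), (0, 2, 1, 2), (1, 2, 0, 1), (1, 0, 1, 2), (1, 1, 0, 1), (2, 0, 1, 1),
  (2, 1, 0, 2), (2, 0, 2, 1), (0, 0, 2, 2), (2, 2, 0, 2), (0, 2, 0, 1), (0, 2, 2, 2),
  (0, 0, 2, 1), (2, 2, 0, 1), (2, 0, 0, 2), (0, 2, 2, 1), (0, 2, 0, 2), (2, 0, 2, 2),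
  (2, 0, 0, 1), (0, 0, 1, 2), (1, 0, 0, 2), (0, 0, 1, 1), (0, 0, 0, 1), (0, 1, 0, 1),
  (1, 0, 0, 1), (0, 1, 0, 2), (0, 0, 0, 2)]

/-- the cocycles -/
def phis : List (List (ZMod 3)) := [
[0, 0, 0, 0, 0, 0, 0, 0, 0, 0, 0, 0, 0, 2, 1, 0, 2, 1, 0, 0, 0, 0, 1, 2, 0, 1, 2],
  [0, 0, 0, 0, 2, 2, 0, 1, 0, 0, 0, 0, 0, 1, 0, 0, 0, 1, 0, 0, 0, 0, 0, 1, 0, 2, 2],
  [0, 0, 0, 0, 0, 0, 0, 0, 0, 0, 1, 0, 0, 0, 0, 0, 0, 2, 0, 2, 0, 0, 0, 0, 0, 0, 1],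
  [0, 0, 0, 0, 0, 0, 0, 0, 0, 0, 0, 0, 0, 0, 0, 0, 0, 0, 0, 0, 0, 0, 0, 0, 0, 0, 0]]

/-- from labels back to points -/
def idxs : List ℕ := [0, 76, 80, 3, 75, 73, 6, 66, 62, 2, 77, 79, 20, 53, 49, 13, 51, 38, 5, 64, 70, 15, 35, 55, 9, 69, 65, 1, 78, 74, 18, 50, 57, 11, 43, 52, 16, 58, 54, 36, 40, 45, 17, 37, 42, 10, 56, 48, 19, 47, 34, 24, 33, 26, 4, 72, 68, 14, 59, 41, 8, 61, 71, 12, 46, 60, 21, 39, 44, 22, 27, 31, 7, 67, 63, 23, 29, 25, 28, 30, 32]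

def wd (n : ℕ) : ℕ × List ℕ := words.getD n (0, [])

def refl (w : ℕ × List ℕ) : List ℕ := w.2.reverse ++ w.1 :: w.2

/-- A table of edges `(g, a, b)`: `g ∘ a = b`. -/
abbrev Table := List (ℕ × ℕ × ℕ)

def look : Table → ℕ → ℕ → Option ℕ
  | [], _, _ => none
  | (g', a', b) :: T, g, a => if Nat.beq g' g && Nat.beq a' a then some b else look T g a

def trace (T : Table) : List ℕ → ℕ → Option ℕ
  | [], a => some a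
  | g :: l, a => match look T g a with
    | none => none
    | some b => trace T l b

def step (T : Table) (s : ℕ × ℕ × ℕ × ℕ) : Option Table :=
  if s.1 = 0 then
    if (wd s.2.2.2).1 = (wd s.2.2.1).1 ∧ (wd s.2.2.2).2 = (wd s.2.2.1).2 ++ [s.2.1] then
      some ((s.2.1, s.2.2.1, s.2.2.2) :: (s.2.1, s.2.2.2, s.2.2.1) :: T) else none
  else
    match (refl (wd s.2.1) ++ refl (wd s.2.2.1))[s.2.2.2]?,
      trace T ((refl (wd s.2.1) ++ refl (wd s.2.2.1)).take s.2.2.2) s.2.2.1,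
      trace T ((refl (wd s.2.1) ++ refl (wd s.2.2.1)).drop (s.2.2.2 + 1)).reverse s.2.1 with
    | some g, some A, some B => some ((g, A, B) :: (g, B, A) :: T)
    | _, _, _ => none

def run : List (ℕ × ℕ × ℕ × ℕ) → Table → Option Table
  | [], T => some T
  | s :: l, T => match step T s with
    | none => none
    | some T' => run l T'

def T₀ : Table := [(0, 0, 0), (1, 1, 1), (2, 2, 2), (3, 3, 3)]

def lab (k : ℕ) : ZMod 3 × ZMod 3 × ZMod 3 × ZMod 3 := labels.getD k (0, 0, 0, 0)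

def idx (l : ZMod 3 × ZMod 3 × ZMod 3 × ZMod 3) : ℕ :=
  idxs.getD (27 * l.1.val + 9 * l.2.1.val + 3 * l.2.2.1.val + l.2.2.2.val) 0

def cst (g : ℕ) : ZMod 3 × ZMod 3 × ZMod 3 :=
  if g = 1 then (2, 0, 0) else if g = 2 then (0, 2, 0) else if g = 3 then (0, 0, 2) else 0

def phi (g : ℕ) (v : ZMod 3 × ZMod 3 × ZMod 3) : ZMod 3 :=
  (phis.getD g []).getD (9 * v.1.val + 3 * v.2.1.val + v.2.2.val) 0

/-- the check of the whole certificate -/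
def check : Bool :=
  match run steps T₀ with
  | none => false
  | some T => ((List.range 4).all fun g => (List.range 81).all fun k =>
      match look T g k with
      | none => false
      | some b => decide (b < 81) && decide ((lab b).1 = (cst g).1 - (lab k).1) &&
          decide ((lab b).2.1 = (cst g).2.1 - (lab k).2.1) && decide ((lab b).2.2.1 = (cst g).2.2 - (lab k).2.2.1) &&
          decide ((lab b).2.2.2 = phi g ((lab k).1, (lab k).2.1, (lab k).2.2.1) - (lab k).2.2.2)) &&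
      (List.range 81).all fun k => decide (idx (lab k) = k) && decide ((wd 0 = (0, [])) ∧ wd 1 = (1, []) ∧ wd 2 = (2, []) ∧ wd 3 = (3, []))

theorem check_true : check = true := by decide +kernel

end H90.HTS
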