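import Mathlib

/-! Counting modulo `r` and the four-group end (S3262, Q8 and Q9b). -/

set_option autoImplicit false

namespace H90.Q8j

open MulAction

universe u

/-- conjugation of `F` on the class of `v` -/
def act {C : Type u} [Group C] (F : Subgroup C) (v : C) : MulAction F {s : C // IsConj v s} where
  smul e s := ⟨(e : C) * s * (e : C)⁻¹, s.2.trans (isConj_iff.mpr ⟨(e : C), rfl⟩)⟩
  one_smul s := by
    apply Subtype.ext
    show ((1 : F) : C) * s * ((1 : F) : C)⁻¹ = s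
    simp
  mul_smul e e' s := by
    apply Subtype.ext
    show ((e * e' : F) : C) * s * ((e * e' : F) : C)⁻¹ = (e : C) * ((e' : C) * s * (e' : C)⁻¹) * (e : C)⁻¹
    rw [Subgroup.coe_mul]; group

theorem conj_count {C : Type u} [Group C] [Finite C] {r : ℕ} (hr : r.Prime) (F : Subgroup C) (hF : IsPGroup r F)
    (v : C) : Nat.card {s : C // IsConj v s} ≡ Nat.card {s : C // IsConj v s ∧ ∀ e ∈ F, e * s = s * e} [MOD r] := by
  haveI : Fact r.Prime := ⟨hr⟩
  letI := act F v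
  have h1 := hF.card_modEq_card_fixedPoints {s : C // IsConj v s}
  refine h1.trans ?_
  rw [Nat.card_congr (?_ : fixedPoints F {s : C // IsConj v s} ≃ {s : C // IsConj v s ∧ ∀ e ∈ F, e * s = s * e})]
  have key : ∀ s : {s : C // IsConj v s}, s ∈ fixedPoints F {s : C // IsConj v s} ↔ ∀ e ∈ F, e * (s : C) = s * e := by
    intro s
    constructor
    · intro h e he
      have h2 : (e : C) * s * (e : C)⁻¹ = s := congrArg Subtype.val (h ⟨e, he⟩)
      exact mul_inv_eq_iff_eq_mul.mp h2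
    · intro h e
      apply Subtype.ext
      show (e : C) * s * (e : C)⁻¹ = s
      exact mul_inv_eq_iff_eq_mul.mpr (h e e.2)
  exact
    { toFun := fun s => ⟨s.1, s.1.2, (key s.1).mp s.2⟩
      invFun := fun s => ⟨⟨s.1, s.2.1⟩, (key ⟨s.1, s.2.1⟩).mpr s.2.2⟩
      left_inv := fun s => rfl
      right_inv := fun s => rfl }

/-- an involution without fixed points inverts a group of odd order -/
theorem inverts {C : Type u} [Group C] [Finite C] (X : Subgroup C) (hX : Odd (Nat.card X)) (v : C) (hv : v * v = 1)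
    (hn : ∀ x ∈ X, v * x * v⁻¹ ∈ X) (hc : ∀ x ∈ X, x * v = v * x → x = 1) : ∀ x ∈ X, v * x * v⁻¹ = x⁻¹ := by
  have hvi : v⁻¹ = v := inv_eq_of_mul_eq_one_left hv
  -- the map `x ↦ x⁻¹ * v x v⁻¹` is injective, hence surjective
  let f : X → X := fun x => x⁻¹ * ⟨v * x * v⁻¹, hn x x.2⟩
  have hinj : Function.Injective f := by
    intro x y hxy
    have h1 : (x : C)⁻¹ * (v * x * v⁻¹) = (y : C)⁻¹ * (v * y * v⁻¹) := congrArg Subtype.val hxy
    have h2 : (y : C) * (x : C)⁻¹ * v = v * ((y : C) * (x : C)⁻¹) := by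
      have h3 : (x : C)⁻¹ * v * x = (y : C)⁻¹ * v * y := by
        have := congrArg (· * v) h1
        simpa [mul_assoc] using this
      calc (y : C) * (x : C)⁻¹ * v = y * ((x : C)⁻¹ * v * x) * (x : C)⁻¹ := by group
        _ = y * ((y : C)⁻¹ * v * y) * (x : C)⁻¹ := by rw [h3]
        _ = v * ((y : C) * (x : C)⁻¹) := by group
    have h4 := hc _ (mul_mem y.2 (inv_mem x.2)) h2
    exact (Subtype.ext (mul_inv_eq_one.mp h4)).symm
  have hsurj : Function.Surjective f := Finite.injective_iff_surjective.mp hinj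
  intro x hx
  obtain ⟨y, hy⟩ := hsurj ⟨x, hx⟩
  have h1 : x = (y : C)⁻¹ * (v * y * v⁻¹) := (congrArg Subtype.val hy).symm
  rw [h1]
  calc v * ((y : C)⁻¹ * (v * y * v⁻¹)) * v⁻¹ = (v * (y : C)⁻¹ * v⁻¹) * ((v * v) * y * (v * v)⁻¹) := by group
    _ = (v * (y : C)⁻¹ * v⁻¹) * y := by rw [hv]; group
    _ = ((y : C)⁻¹ * (v * y * v⁻¹))⁻¹ := by group

/-- four-group end -/
theorem four_end {C : Type u} [Group C] [Finite C] (X : Subgroup C) (hX : Odd (Nat.card X)) (v p : C) (hv : v * v = 1)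
    (hp : p * p = 1) (hvp : v * p = p * v) (hnv : ∀ x ∈ X, v * x * v⁻¹ ∈ X) (hnp : ∀ x ∈ X, p * x * p⁻¹ ∈ X)
    (h1 : ∀ x ∈ X, x * v = v * x → x = 1) (h2 : ∀ x ∈ X, x * p = p * x → x = 1)
    (h3 : ∀ x ∈ X, x * (p * v) = (p * v) * x → x = 1) : X = ⊥ := by
  rw [eq_bot_iff]
  intro x hx
  rw [Subgroup.mem_bot]
  apply h3 x hx
  have e1 := inverts X hX v hv hnv h1 x hx
  have e2 := inverts X hX p hp hnp h2 _ (inv_mem hx)
  have e3 : p * v * x * (p * v)⁻¹ = x := by
    calc p * v * x * (p * v)⁻¹ = p * (v * x * v⁻¹) * p⁻¹ := by group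
      _ = x := by rw [e1, e2, inv_inv]
  exact (mul_inv_eq_iff_eq_mul.mp e3).symm

end H90.Q8j
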