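import Cfsg.Agent.Lib.H90.Trans
import Cfsg.Agent.Lib.H88.Focal
import Cfsg.Agent.Lib.H87.Factor2
import Cfsg.Agent.Lib.H90.FusAb

set_option autoImplicit false
open Cfsg

/-! Transport of centre, hyperfocal subgroup, factor systems, quasisimplicity, subnormality, components, layers. -/

namespace H90.TransComp

open Cfsg.FusionSystem H87.Base H87.Basic H87.Factor H87.Factor2 H90.Trans

variable {Ω Ω' : Type*} [Group Ω] [Group Ω'] {S T P Q R U : Subgroup Ω} {S' T' P' Q' R' U' : Subgroup Ω'}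
variable {u : Ω → Ω'} {v : Ω' → Ω}

/-- The multiplicative equivalence of a transport. -/
def trEquiv (h : Tr S S' u v) : S ≃* S' where
  toFun x := ⟨u x, h.mem x x.2⟩
  invFun y := ⟨v y, h.mem' y y.2⟩
  left_inv x := Subtype.ext (h.left x x.2)
  right_inv y := Subtype.ext (h.right y y.2)
  map_mul' x y := Subtype.ext (h.mul x x.2 y y.2)

theorem trEquiv_coe (h : Tr S S' u v) (x : S) : ((trEquiv h x : S') : Ω') = u x := rfl

variable {E : FusionSystem T} {E' : FusionSystem T'} {F : FusionSystem S} {F' : FusionSystem S'}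

theorem isCentral (h : Rel u v F F') (hQ : F.IsCentral Q) : F'.IsCentral (him Q u) := by
  rw [isCentral_iff] at hQ ⊢
  refine ⟨h.tr.him_le hQ.1, fun P' f' hf' => ?_⟩
  obtain ⟨g, hg, g1, g2⟩ := hQ.2 _ _ (h.symm.isMap hf')
  have hP'S := hf'.le
  have hPv : him P' v ≤ S := h.tr.symm.him_le hP'S
  have h1 := h.isMap hg
  rw [h.tr.him_sup hPv hQ.1, h.tr.symm.him_him hP'S] at h1
  refine ⟨_, h1, fun x hx => ?_, fun x hx => ?_⟩
  · unfold tmap
    rw [g1 (v x) (Tr.apply_mem_him hx)]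
    unfold tmap
    rw [h.tr.right x (hP'S hx), h.tr.right _ (hf'.mem hx)]
  · obtain ⟨y, hy, rfl⟩ := (h.tr.mem_him hQ.1).1 hx
    unfold tmap
    rw [h.tr.left y (hQ.1 hy), g2 y hy]

theorem center_eq (h : Rel u v F F') [Finite S] : him F.center u = F'.center := by
  have : Finite S' := h.tr.finite
  apply le_antisymm
  · exact IsCentral.le_center (isCentral h (isCentral_center F))
  · have h1 : him F'.center v ≤ F.center := IsCentral.le_center (isCentral h.symm (isCentral_center F'))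
    have h2 := Tr.him_mono (u := u) h1
    rwa [h.tr.symm.him_him (H90.FusAb.center_le F')] at h2

theorem hyp_le (h : Rel u v F F') (p : ℕ) : F'.hyperfocalSubgroup p ≤ him (F.hyperfocalSubgroup p) u := by
  apply H88.Focal.hyp_le_of
  intro P' hP' α' hα' hc x
  have hr : Tr P' (him P' v) v u := h.tr.symm.restrict hP'
  have hPS : him P' v ≤ S := h.tr.symm.him_le hP'
  let e := trEquiv hr
  let α : MulAut (him P' v) := MulAut.congr e α'
  have hα : α ∈ F.autGroup (him P' v) := by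
    have h1 : IsMap F' P' (extFun (P'.subtype.comp α'.toMonoidHom)) := (mem_autGroup_iff hP').1 hα'
    refine mem_autGroup_of_isMap hPS (h.symm.isMap h1) fun y => ?_
    unfold tmap
    have h2 : u y ∈ P' := ((h.tr.symm.mem_him' hP').1 y.2).2
    rw [extFun_apply _ h2]
    rfl
  have hc' : Nat.Coprime (orderOf α) p := by
    have : orderOf α = orderOf α' := MulEquiv.orderOf_eq (MulAut.congr e) α'
    rw [this]; exact hc
  have h1 := H88.Focal.mem_hyp_of_coprime hPS hα hc' (e x)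
  have h2 : α (e x) = e (α' x) := by
    change e (α' (e.symm (e x))) = _
    rw [e.symm_apply_apply]
  rw [h2] at h1
  have h3 : u (((e x : him P' v) : Ω)⁻¹ * ((e (α' x) : him P' v) : Ω)) ∈ him (F.hyperfocalSubgroup p) u :=
    Tr.apply_mem_him h1
  have h4 : u (((e x : him P' v) : Ω)⁻¹ * ((e (α' x) : him P' v) : Ω)) = (x : Ω')⁻¹ * (α' x : P') := by
    rw [h.tr.mul _ (S.inv_mem (hPS (e x).2)) _ (hPS (e (α' x)).2), h.tr.inv (hPS (e x).2)]
    change (u (v x))⁻¹ * u (v (α' x)) = _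
    rw [h.tr.right x (hP' x.2), h.tr.right _ (hP' (α' x).2)]
  rwa [h4] at h3

theorem hyp_eq (h : Rel u v F F') (p : ℕ) : him (F.hyperfocalSubgroup p) u = F'.hyperfocalSubgroup p := by
  apply le_antisymm
  · have h1 := Tr.him_mono (u := u) (hyp_le h.symm p)
    rwa [h.tr.symm.him_him (H88.Focal.hyp_le F' p)] at h1
  · exact hyp_le h p

/-- A factor system of the transported system is a factor system of the original one. -/
theorem factor_of_rel (h : Rel u v F F') {Ω'' : Type*} [Group Ω''] {S'' : Subgroup Ω''} {S₀' : Subgroup Ω'}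
    {θ' : S' →* Ω''} {D : FusionSystem S''} (hD : F'.IsFactorSystem S₀' θ' D) :
    F.IsFactorSystem (him S₀' v) (θ'.comp (trEquiv h.tr).toMonoidHom) D := by
  obtain ⟨h1, hk, hr, h4⟩ := isFactorSystem_iff.1 hD
  have hext : ∀ s ∈ S, extFun (θ'.comp (trEquiv h.tr).toMonoidHom) s = extFun θ' (u s) := by
    intro s hs
    rw [extFun_apply _ hs, extFun_apply _ (h.tr.mem s hs)]
    rfl
  have hpre : ∀ P'' : Subgroup Ω'', preimageAlong (θ'.comp (trEquiv h.tr).toMonoidHom) P'' = him (preimageAlong θ' P'') v := by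
    intro P''
    ext x
    rw [mem_preimageAlong, h.tr.symm.mem_him' preimageAlong_le, mem_preimageAlong]
    constructor
    · rintro ⟨hx, h5⟩
      rw [hext x hx] at h5
      exact ⟨hx, h.tr.mem x hx, h5⟩
    · rintro ⟨hx, -, h5⟩
      rw [hext x hx]
      exact ⟨hx, h5⟩
  rw [isFactorSystem_iff]
  refine ⟨h.tr.symm.him_le h1, fun s hs => ?_, ?_, fun P'' f'' => ?_⟩
  · rw [hext s hs, hk _ (h.tr.mem s hs), h.tr.symm.mem_him' h1]
    exact ⟨fun h5 => ⟨hs, h5⟩, fun h5 => h5.2⟩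
  · rw [← hr]
    ext y
    constructor
    · rintro ⟨x, rfl⟩
      exact ⟨trEquiv h.tr x, rfl⟩
    · rintro ⟨x, rfl⟩
      refine ⟨(trEquiv h.tr).symm x, ?_⟩
      change θ' (trEquiv h.tr ((trEquiv h.tr).symm x)) = _
      rw [MulEquiv.apply_symm_apply]
  · rw [h4, hpre]
    refine and_congr_right fun hP'' => ?_
    have hle : preimageAlong θ' P'' ≤ S' := preimageAlong_le
    constructor
    · rintro ⟨f, hf, hi⟩
      refine ⟨_, h.symm.isMap hf, ?_⟩
      intro x hx
      obtain ⟨hx1, hx2⟩ := (h.tr.symm.mem_him' hle).1 hx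
      rw [hext x hx1, hi _ hx2]
      unfold tmap
      rw [hext _ (h.tr.mem' _ (hf.mem hx2)), h.tr.right _ (hf.mem hx2)]
    · rintro ⟨f, hf, hi⟩
      have h5 := h.isMap hf
      rw [h.tr.symm.him_him hle] at h5
      refine ⟨_, h5, ?_⟩
      intro x hx
      have hx1 := hle hx
      have hxv : v x ∈ him (preimageAlong θ' P'') v := Tr.apply_mem_him hx
      have h6 := hi (v x) hxv
      rw [hext _ (h.tr.mem' x hx1), h.tr.right x hx1, hext _ (hf.mem hxv)] at h6
      exact h6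

/-- Two factor systems of `F` modulo the same subgroup are isomorphic. -/
theorem factor_rel {Ω₁ Ω₂ : Type*} [Group Ω₁] [Group Ω₂] {S₁ : Subgroup Ω₁} {S₂ : Subgroup Ω₂} {S₀ : Subgroup Ω}
    {θ₁ : S →* Ω₁} {θ₂ : S →* Ω₂} {E₁ : FusionSystem S₁} {E₂ : FusionSystem S₂}
    (h₁ : F.IsFactorSystem S₀ θ₁ E₁) (h₂ : F.IsFactorSystem S₀ θ₂ E₂) :
    ∃ (u : Ω₁ → Ω₂) (v : Ω₂ → Ω₁), Rel u v E₁ E₂ := by
  obtain ⟨a1, ak, ar, a4⟩ := isFactorSystem_iff.1 h₁
  obtain ⟨b1, bk, br, b4⟩ := isFactorSystem_iff.1 h₂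
  have hker : θ₁.ker = θ₂.ker := by
    ext x
    rw [MonoidHom.mem_ker, MonoidHom.mem_ker, h₁.2.1, h₂.2.1]
  subst ar
  subst br
  let e : θ₁.range ≃* θ₂.range := (QuotientGroup.quotientKerEquivRange θ₁).symm.trans
    ((QuotientGroup.quotientMulEquivOfEq hker).trans (QuotientGroup.quotientKerEquivRange θ₂))
  have he : ∀ x : S, e ⟨θ₁ x, ⟨x, rfl⟩⟩ = ⟨θ₂ x, ⟨x, rfl⟩⟩ := by
    intro x
    have h3 : (QuotientGroup.quotientKerEquivRange θ₁).symm ⟨θ₁ x, ⟨x, rfl⟩⟩ = QuotientGroup.mk x := by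
      rw [MulEquiv.symm_apply_eq]
      rfl
    change (QuotientGroup.quotientKerEquivRange θ₂) ((QuotientGroup.quotientMulEquivOfEq hker)
      ((QuotientGroup.quotientKerEquivRange θ₁).symm ⟨θ₁ x, ⟨x, rfl⟩⟩)) = _
    rw [h3]
    rfl
  obtain ⟨u, v, htr, hu, hv⟩ := exists_tr e
  have hue : ∀ x ∈ S, u (extFun θ₁ x) = extFun θ₂ x := by
    intro x hx
    rw [extFun_apply _ hx, extFun_apply _ hx]
    have h3 := hu ⟨θ₁ ⟨x, hx⟩, ⟨_, rfl⟩⟩
    rw [he] at h3
    exact h3
  have hve : ∀ x ∈ S, v (extFun θ₂ x) = extFun θ₁ x := by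
    intro x hx
    rw [← hue x hx]
    exact htr.left _ (mem_range_iff.2 ⟨x, hx, rfl⟩)
  refine ⟨u, v, htr, fun P a hP ha => ?_⟩
  rw [a4, b4]
  have hpre : preimageAlong θ₂ (him P u) = preimageAlong θ₁ P := by
    ext x
    rw [mem_preimageAlong, mem_preimageAlong]
    refine and_congr_right fun hx => ?_
    rw [htr.mem_him' hP, hve x hx]
    exact ⟨fun h3 => h3.2, fun h3 => ⟨mem_range_iff.2 ⟨x, hx, rfl⟩, h3⟩⟩
  rw [hpre]
  constructor
  · rintro ⟨-, f, hf, hi⟩
    refine ⟨htr.him_le hP, f, hf, fun x hx => ?_⟩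
    have hxS := hf.le hx
    unfold tmap
    rw [hve x hxS, hi x hx, hue _ (hf.mem hx)]
  · rintro ⟨-, f, hf, hi⟩
    refine ⟨hP, f, hf, fun x hx => ?_⟩
    have hxS := hf.le hx
    have h3 := hi x hx
    unfold tmap at h3
    rw [hve x hxS, ← hue _ (hf.mem hx)] at h3
    exact htr.inj (ha _ (mem_preimageAlong.1 hx).2) (mem_range_iff.2 ⟨_, hf.mem hx, rfl⟩) h3

theorem simple_factor [Finite S] {p : ℕ} [Fact p.Prime] (hS : IsPGroup p S) (hq : F.Quasisimple p)
    {Ω₁ : Type*} [Group Ω₁] {S₁ : Subgroup Ω₁} {θ : S →* Ω₁} {D : FusionSystem S₁} (hD : F.IsFactorSystem F.center θ D) :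
    D.IsSimple p := by
  have hsc : F.StronglyClosed F.center :=
    H87.Basic.IsNormal.stronglyClosed (H87.Basic.IsCentral.isNormal (isCentral_center F))
  obtain ⟨E₀, hE₀⟩ := exists_factorSystem (F := F) (S₀ := F.center)
    (α := QuotientGroup.mk' ((F.center).subgroupOf S)) (S' := ⊤) hsc (by
      intro s hs
      rw [extFun_apply _ hs]
      change (QuotientGroup.mk' _) (⟨s, hs⟩ : S) = 1 ↔ _
      rw [QuotientGroup.mk'_apply, QuotientGroup.eq_one_iff, Subgroup.mem_subgroupOf]) (by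
      rw [MonoidHom.range_eq_top]
      exact QuotientGroup.mk'_surjective _)
  have h1 := hq.2.2 E₀ hE₀
  obtain ⟨u, v, hr⟩ := factor_rel hE₀ hD
  have hfin : Finite (⊤ : Subgroup (S ⧸ (F.center).subgroupOf S)) := inferInstance
  refine hr.isSimple ?_ h1
  have h2 : IsPGroup p (S ⧸ (F.center).subgroupOf S) := hS.to_quotient _
  exact h2.to_subgroup ⊤

theorem quasisimple (h : Rel u v F F') [Finite S] {p : ℕ} [Fact p.Prime] (hS : IsPGroup p S) (hq : F.Quasisimple p) :
    F'.Quasisimple p := by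
  refine ⟨h.saturated hS hq.1, ?_, fun D hD => ?_⟩
  · rw [← hyp_eq h p, hq.2.1, h.him_eq]
  · have : Finite S' := h.tr.finite
    have h1 := factor_of_rel h hD
    rw [center_eq h.symm] at h1
    exact simple_factor hS hq h1

theorem subnormal_aux {p : ℕ} (hsub : E.IsSubnormalIn F p) (hp : p.Prime) :
    Finite S → IsPGroup p S → ∀ {u : Ω → Ω'} {v : Ω' → Ω} {S' T' : Subgroup Ω'} (F' : FusionSystem S') (E' : FusionSystem T'),
      Rel u v F F' → Rel u v E E' → E'.IsSubnormalIn F' p := by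
  induction hsub with
  | refl F p =>
    intro _ _ u v S' T' F' E' hF hE
    have h1 : T' = S' := by rw [← hE.him_eq, ← hF.him_eq]
    subst h1
    have h2 : E' = F' := H86.FusBasic.fs_ext (Rel.hom_eq hE hF fun _ => rfl)
    rw [h2]
    exact FusionSystem.IsSubnormalIn.refl F' p
  | step hED hDF ih =>
    rename_i U S E D F p
    intro hfin hpS u v S' T' F' E' hF hE
    have := Fact.mk hp
    have hU : U ≤ S := hDF.1.2.2.2.1.1
    obtain ⟨D', hD'⟩ := exists_rel (hF.tr.restrict hU) D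
    have hUfin : Finite U := finite_of_le hU
    exact FusionSystem.IsSubnormalIn.step (ih hp hUfin (hpS.to_le hU) D' E' hD' hE) (hD'.isNormalIn hF hpS hDF)

theorem subnormal (hF : Rel u v F F') (hE : Rel u v E E') [Finite S] {p : ℕ} [hp : Fact p.Prime] (hS : IsPGroup p S)
    (h : E.IsSubnormalIn F p) : E'.IsSubnormalIn F' p :=
  subnormal_aux h hp.out inferInstance hS F' E' hF hE

theorem subnormal_le {p : ℕ} (h : E.IsSubnormalIn F p) : T ≤ S := by
  induction h with
  | refl F p => exact le_rfl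
  | step _ hD ih => exact ih.trans hD.1.2.2.2.1.1

theorem component (hF : Rel u v F F') (hE : Rel u v E E') [Finite S] {p : ℕ} [hp : Fact p.Prime] (hS : IsPGroup p S)
    (h : E.IsComponentIn F p) : E'.IsComponentIn F' p := by
  have hT := subnormal_le h.1
  have : Finite T := finite_of_le hT
  exact ⟨subnormal hF hE hS h.1, quasisimple hE (hS.to_le hT) h.2⟩

theorem isLayerOf (hF : Rel u v F F') (hE : Rel u v E E') [Finite S] {p : ℕ} [hp : Fact p.Prime] (hS : IsPGroup p S)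
    (h : E.IsLayerOf F p) : E'.IsLayerOf F' p := by
  have hfin : Finite S' := hF.tr.finite
  have hS' : IsPGroup p S' := hF.tr.isPGroup hS
  obtain ⟨h1, h2, h3⟩ := h
  refine ⟨hE.isNormalIn hF hS h1, fun U' C' hC' => ?_, fun R' D' hD' hall => ?_⟩
  · have hU : U' ≤ S' := subnormal_le hC'.1
    obtain ⟨C, hC⟩ := exists_rel (hF.tr.symm.restrict hU) C'
    have h4 := h2 _ C (component hF.symm hC hS' hC')
    exact hC.symm.isSubsystemOf hE h4
  · have hR : R' ≤ S' := hD'.1.2.2.2.1.1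
    obtain ⟨D, hD⟩ := exists_rel (hF.tr.symm.restrict hR) D'
    have h4 := h3 _ D (hD.isNormalIn hF.symm hS' hD') (fun U C hC => by
      have hU : U ≤ S := subnormal_le hC.1
      obtain ⟨C', hC'⟩ := exists_rel (hF.tr.restrict hU) C
      have h5 := hall _ C' (component hF hC' hS hC)
      exact hC'.symm.isSubsystemOf hD h5)
    exact hE.isSubsystemOf hD.symm h4

/-- Layers are unique. -/
theorem layer_unique {p : ℕ} {T₁ T₂ : Subgroup Ω} {E₁ : FusionSystem T₁} {E₂ : FusionSystem T₂} (h₁ : E₁.IsLayerOf F p)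
    (h₂ : E₂.IsLayerOf F p) : E₁.IsSubsystemOf E₂ := h₁.2.2 _ E₂ h₂.1 h₂.2.1

end H90.TransComp
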